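import Cfsg.Agent.Lib.Helper36.ChevSound

/-!
Two more checks on top of the reflection engine of helper36: identities between words modulo a
natural number `p` (for fields in which `p` vanishes), and the value of one matrix entry of a word.
-/

set_option autoImplicit false

namespace Cfsg.Agent.Lib.Helper19.TwEngine

open Cfsg Cfsg.Lie Cfsg.Agent.Lib.Helper36.ChevEngine Cfsg.Agent.Lib.Helper36.ChevSound

/-- the integer is divisible by `p` -/
def isZeroMod (p : ℕ) : ℤ → Bool
  | Int.ofNat n => Nat.beq (Nat.mod n p) 0
  | Int.negSucc n => Nat.beq (Nat.mod (Nat.succ n) p) 0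

/-- all coefficients are divisible by `p` -/
def allZeroMod (p : ℕ) : List Term → Bool
  | [] => true
  | τ :: l => isZeroMod p τ.coef && allZeroMod p l

/-- the coefficients at the index `r` are divisible by `p` -/
def zeroAt (p r : ℕ) : List Term → Bool
  | [] => true
  | τ :: l => (bif Nat.beq τ.idx r then isZeroMod p τ.coef else true) && zeroAt p r l

/-- the columns with code `c` of the two compiled words agree modulo `p` -/
def checkColP (p dim : ℕ) (cL cR : List CFactor) (c : ℕ) : Bool :=
  allZeroMod p (normT (applyW dim cL [⟨c, 0, 0, 0, Int.ofNat 1⟩])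
    (applyW dim cR [⟨c, 0, 0, 0, Int.negSucc 0⟩]))

/-- all columns of the two compiled words agree modulo `p` -/
def checkCP (p dim : ℕ) (cL cR : List CFactor) : Bool := allBelow (checkColP p dim cL cR) dim

/-- the two words have the same matrix modulo `p` -/
def checkRelP (p : ℕ) (T : List ℕ) (rank nroots : ℕ) (L R : SWord) : Bool :=
  rootsBelow nroots L && (rootsBelow nroots R &&
    checkCP p (Nat.add rank nroots) (compileW T L) (compileW T R))

/-- the terms `-P` at the index `r` -/
def negTerms (r : ℕ) : Param → List Term
  | [] => []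
  | m :: P => ⟨r, m.a, m.b, m.c, Int.neg m.coef⟩ :: negTerms r P

/-- the entry at row code `r` and column code `c` of the compiled word is `P` modulo `p` -/
def entryOK (p : ℕ) (T : List ℕ) (rank nroots : ℕ) (w : SWord) (r c : ℕ) (P : Param) : Bool :=
  rootsBelow nroots w &&
    zeroAt p r (normT (applyW (Nat.add rank nroots) (compileW T w) [⟨c, 0, 0, 0, Int.ofNat 1⟩])
      (negTerms r P))

variable {F : Type*} [Field F]

theorem isZeroMod_cast (p : ℕ) (hp : (p : F) = 0) (z : ℤ) (h : isZeroMod p z = true) :
    ((z : ℤ) : F) = 0 := by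
  cases z with
  | ofNat n =>
    simp only [isZeroMod] at h
    have h1 : n % p = 0 := Nat.eq_of_beq_eq_true h
    have h2 : p ∣ n := Nat.dvd_of_mod_eq_zero h1
    obtain ⟨k, rfl⟩ := h2
    show (((p * k : ℕ) : ℤ) : F) = 0
    push_cast
    rw [hp, zero_mul]
  | negSucc n =>
    simp only [isZeroMod] at h
    have h1 : (n + 1) % p = 0 := Nat.eq_of_beq_eq_true h
    have h2 : p ∣ n + 1 := Nat.dvd_of_mod_eq_zero h1
    obtain ⟨k, hk⟩ := h2
    have e : Int.negSucc n = -((p * k : ℕ) : ℤ) := by
      rw [← hk]
      rfl
    rw [e]
    push_cast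
    rw [hp, zero_mul, neg_zero]

theorem evalVec_allZeroMod (p : ℕ) (hp : (p : F) = 0) (t u v : F) (j : ℕ) :
    ∀ l : List Term, allZeroMod p l = true → evalVec t u v l j = 0 := by
  intro l
  induction l with
  | nil => intro _; rfl
  | cons τ l ih =>
    intro h
    simp only [allZeroMod, Bool.and_eq_true] at h
    have h0 := isZeroMod_cast p hp τ.coef h.1
    simp only [evalVec, ih h.2, termEval, h0]
    simp

theorem evalVec_zeroAt (p : ℕ) (hp : (p : F) = 0) (t u v : F) (r : ℕ) :
    ∀ l : List Term, zeroAt p r l = true → evalVec t u v l r = 0 := by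
  intro l
  induction l with
  | nil => intro _; rfl
  | cons τ l ih =>
    intro h
    simp only [zeroAt, Bool.and_eq_true] at h
    simp only [evalVec, ih h.2, add_zero]
    by_cases hr : τ.idx = r
    · rw [if_pos hr]
      have h1 := h.1
      have hb : Nat.beq τ.idx r = true := by rw [hr]; exact Nat.beq_refl r
      rw [hb] at h1
      have h0 := isZeroMod_cast (F := F) p hp τ.coef h1
      simp only [termEval, h0]
      simp
    · rw [if_neg hr]

theorem evalVec_negTerms (t u v : F) (r : ℕ) :
    ∀ P : Param, evalVec t u v (negTerms r P) r = - evalParam t u v P := by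
  intro P
  induction P with
  | nil => simp [negTerms, evalVec, evalParam]
  | cons m P ih =>
    simp only [negTerms, evalVec, evalParam, ih, if_true, termEval, monoEval]
    have e : ((Int.neg m.coef : ℤ) : F) = - ((m.coef : ℤ) : F) := by
      show (((- m.coef : ℤ)) : F) = _
      push_cast
      rfl
    rw [e]
    ring

theorem checkCP_sound (p : ℕ) (hp : (p : F) = 0) (D : ChevalleyDatum) (t u v : F)
    (cL cR : List CFactor) (A B : Matrix D.Idx D.Idx F) (hL : WSound D t u v cL A)
    (hR : WSound D t u v cR B) (h : checkCP p (D.rank + D.nroots) cL cR = true) : A = B := by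
  ext row col
  have h1 := allBelow_true _ _ h (code D col) (code_lt D col)
  have h2 := evalVec_allZeroMod p hp t u v (code D row) _ h1
  rw [evalVec_normT] at h2
  have e1 := applyW_unit D t u v cL A hL (Int.ofNat 1) row col
  have e2 := applyW_unit D t u v cR B hR (Int.negSucc 0) row col
  rw [e1, e2] at h2
  have h3 : ((Int.ofNat 1 : ℤ) : F) = 1 := by simp
  have h4 : ((Int.negSucc 0 : ℤ) : F) = -1 := by simp
  rw [h3, h4] at h2
  linear_combination h2

/-- a passing `checkRelP` proves the equality of the matrices of two words, for all values of the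
parameters, over a field in which `p` vanishes -/
theorem checkRelP_sound (p : ℕ) (hp : (p : F) = 0) (D : ChevalleyDatum) (T : List ℕ)
    (hT : TableOK D T) (L R : SWord)
    (h : checkRelP p T D.rank D.nroots L R = true) (t u v : F) :
    D.wordMat F (evalWord t u v L) = D.wordMat F (evalWord t u v R) := by
  simp only [checkRelP, Bool.and_eq_true] at h
  exact checkCP_sound p hp D t u v _ _ _ _ (wsound_compileW D T hT t u v L h.1)
    (wsound_compileW D T hT t u v R h.2.1) h.2.2

/-- a passing `entryOK` gives the value of an entry of the matrix of a word -/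
theorem entryOK_sound (p : ℕ) (hp : (p : F) = 0) (D : ChevalleyDatum) (T : List ℕ)
    (hT : TableOK D T) (w : SWord) (row col : D.Idx) (P : Param)
    (h : entryOK p T D.rank D.nroots w (code D row) (code D col) P = true) (t u v : F) :
    D.wordMat F (evalWord t u v w) row col = evalParam t u v P := by
  simp only [entryOK, Bool.and_eq_true] at h
  have hw := wsound_compileW D T hT t u v w h.1
  have h2 := evalVec_zeroAt p hp t u v (code D row) _ h.2
  rw [evalVec_normT, evalVec_negTerms] at h2
  have e1 := applyW_unit D t u v _ _ hw (Int.ofNat 1) row col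
  have e0 : Nat.add D.rank D.nroots = D.rank + D.nroots := rfl
  rw [e0, e1] at h2
  have h3 : ((Int.ofNat 1 : ℤ) : F) = 1 := by simp
  rw [h3] at h2
  linear_combination h2

/-- the constant parameter `c` -/
def cst (c : ℤ) : Param := [⟨c, 0, 0, 0⟩]

theorem evalParam_cst (t u v : F) (c : ℤ) : evalParam t u v (cst c) = (c : F) := by
  simp [cst, evalParam, monoEval]

end Cfsg.Agent.Lib.Helper19.TwEngine
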