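import Cfsg.Agent.Lib.Helper19.TwCore
import Cfsg.Agent.Lib.Helper19.TwEngine

/-!
The normal core of `B ⊓ G¹` for a subgroup `G¹` generated by words in root elements, from checks of
the reflection engine: a word identity putting a representative of the longest element of the Weyl
group into `G¹`, and one matrix entry of a generating word for each fundamental root.
-/

set_option autoImplicit false
set_option linter.unusedSimpArgs false

namespace Cfsg.Agent.Lib.Helper19.TwGlue

open Cfsg Cfsg.Lie Cfsg.Agent.Lib.Helper18.Fast Cfsg.Agent.Lib.Helper18.Grade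
  Cfsg.Agent.Lib.Helper18.Facts Cfsg.Agent.Lib.Helper18.AllRoots Cfsg.Agent.Lib.Helper18.Loop
  Cfsg.Agent.Lib.Helper18.Weyl Cfsg.Agent.Lib.Helper18.RootSys Cfsg.Agent.Lib.Helper18.Orbit
  Cfsg.Agent.Lib.Helper18.Units Cfsg.Agent.Lib.Helper18.Sub Cfsg.Agent.Lib.Helper18.Norm
  Cfsg.Agent.Lib.Helper18.HAll Cfsg.Agent.Lib.Helper18.Torus Cfsg.Agent.Lib.Helper18.Pos
  Cfsg.Agent.Lib.Helper18.WGroup Cfsg.Agent.Lib.Helper18.BNChev Cfsg.Agent.Lib.Helper18.Mono
  Cfsg.Agent.Lib.Helper18.BNPairC Cfsg.Agent.Lib.Helper18.Long Cfsg.Agent.Lib.Helper18.HOrder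
  Cfsg.Agent.Lib.Helper18.XMat Cfsg.Agent.Lib.Helper18.Core
  Cfsg.Agent.Lib.Helper36.ChevEngine Cfsg.Agent.Lib.Helper36.ChevSound
  Cfsg.Agent.Lib.Helper19.TwCore Cfsg.Agent.Lib.Helper19.TwEngine

variable {A : FData} {D : ChevalleyDatum} {F : Type*} [Field F] {X : WD} {m : ℕ → ℕ → ℤ}
  {w : ℕ → ℤ}

/-- the symbolic word of the `n_{p_i}(1)` along a word in the fundamental reflections -/
def symN (D : ChevalleyDatum) : List ℕ → SWord
  | [] => []
  | i :: l => (D.simple i, cst 1) :: (D.neg (D.simple i), cst (-1)) :: (D.simple i, cst 1) ::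
      symN D l

/-- the symbolic word with constant parameters -/
def symC : List (ℕ × ℤ) → SWord
  | [] => []
  | q :: l => (q.1, cst q.2) :: symC l

/-- the word with the parameters cast to the field -/
def castW (F : Type*) [Field F] : List (ℕ × ℤ) → List (ℕ × F)
  | [] => []
  | q :: l => (q.1, ((q.2 : ℤ) : F)) :: castW F l

theorem evalWord_symN (D : ChevalleyDatum) (t u v : F) :
    ∀ wd : List ℕ, evalWord t u v (symN D wd) = nwWord D F wd := by
  intro wd
  induction wd with
  | nil => rfl
  | cons i l ih =>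
    have e : evalWord t u v (symN D (i :: l)) =
        (D.simple i, evalParam t u v (cst 1)) :: (D.neg (D.simple i), evalParam t u v (cst (-1))) ::
          (D.simple i, evalParam t u v (cst 1)) :: evalWord t u v (symN D l) := rfl
    rw [e, ih, evalParam_cst, evalParam_cst]
    simp [nwWord, ChevalleyDatum.nWord]

theorem evalWord_symC (t u v : F) :
    ∀ z : List (ℕ × ℤ), evalWord t u v (symC z) = castW F z := by
  intro z
  induction z with
  | nil => rfl
  | cons q l ih =>
    have e : evalWord t u v (symC (q :: l)) =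
        (q.1, evalParam t u v (cst q.2)) :: evalWord t u v (symC l) := rfl
    rw [e, ih, evalParam_cst]
    rfl

theorem castW_append (z z' : List (ℕ × ℤ)) : castW F (z ++ z') = castW F z ++ castW F z' := by
  induction z with
  | nil => rfl
  | cons q l ih =>
    show (q.1, ((q.2 : ℤ) : F)) :: castW F (l ++ z') = _
    rw [ih]
    rfl

theorem wordMat_flatten (D : ChevalleyDatum) :
    ∀ ws : List (List (ℕ × ℤ)),
      D.wordMat F (castW F ws.flatten) = ((ws.map (castW F)).map (D.wordMat F)).prod := by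
  intro ws
  induction ws with
  | nil =>
    show D.wordMat F [] = 1
    exact Cfsg.Agent.Lib.Helper18.Sub.wordMat_nil D
  | cons z l ih =>
    rw [List.flatten_cons, castW_append, Cfsg.Agent.Lib.Helper18.Sub.wordMat_append, ih]
    simp

theorem mem_castW_pos (D : ChevalleyDatum) :
    ∀ z : List (ℕ × ℤ), (∀ q ∈ z, D.IsPosRoot q.1) → ∀ q ∈ castW F z, D.IsPosRoot q.1 := by
  intro z
  induction z with
  | nil =>
    intro _ q hq
    simp [castW] at hq
  | cons q0 l ih =>
    intro h q hq
    simp only [castW, List.mem_cons] at hq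
    rcases hq with rfl | hq
    · exact h q0 List.mem_cons_self
    · exact ih (fun q' hq' => h q' (List.mem_cons_of_mem _ hq')) q hq

/-- The product of the `n_{p_i}(1)` along `wd` lies in the subgroup generated by `S`, by a check of
a word identity modulo `p`. -/
theorem nw_mem_gen (hF : AFacts A D) (p : ℕ) (hp : ((p : ℕ) : F) = 0) (T : List ℕ)
    (hT : TableOK D T) (S : Set (List (ℕ × F))) (wd : List ℕ) (hwd : ∀ i ∈ wd, i < A.rank)
    (ws : List (List (ℕ × ℤ))) (hws : ∀ z ∈ ws, castW F z ∈ S)
    (hchk : checkRelP p T D.rank D.nroots (symN D wd) (symC ws.flatten) = true) :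
    nw hF F (plain wd) ∈ D.genSubgroup F S := by
  apply mem_gen_of_words hF S (ws.map (castW F))
  · intro z hz
    obtain ⟨z', hz', rfl⟩ := List.mem_map.mp hz
    exact hws z' hz'
  · rw [coe_nw_plain hF wd hwd, ← evalWord_symN D (0 : F) 0 0,
      checkRelP_sound p hp D T hT _ _ hchk (0 : F) 0 0, evalWord_symC, wordMat_flatten]

/-- An element of `U` in the subgroup generated by `S` with a non-zero entry in the column of
`-p_j` and the row of `h_{p_j}`, by a check of one matrix entry. -/
theorem test_of_entry (hF : AFacts A D) (T : List ℕ) (hT : TableOK D T)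
    (S : Set (List (ℕ × F))) (z : List (ℕ × ℤ)) (hz : castW F z ∈ S)
    (hpos : ∀ q ∈ z, D.IsPosRoot q.1) (j : Fin A.rank)
    (hchk : entryOK 0 T D.rank D.nroots (symC z) j.val (D.rank + D.neg (D.simple j.val))
      (cst 1) = true) :
    ∃ s ∈ D.genSubgroup F S, s ∈ D.posUnipotent F ∧
      ∃ (i : Fin D.rank) (b : Fin D.nroots), b.val = D.neg (A.simple j) ∧
        (s : Matrix D.Idx D.Idx F) (Sum.inl i) (Sum.inr b) ≠ 0 := by
  have hj' : j.val < D.rank := by rw [hF.agrees.rank_eq]; exact j.isLt
  have hs : D.simple j.val = A.simple j.val := simple_eq_fast hF hj'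
  have hb : D.neg (A.simple j.val) < D.nroots := neg_lt hF (simple_lt' hF j.isLt)
  refine ⟨(isUnit_wordMat' hF (castW F z)).unit, Subgroup.subset_closure ⟨_, hz, rfl⟩, ?_,
    ⟨j.val, hj'⟩, ⟨D.neg (A.simple j.val), hb⟩, rfl, ?_⟩
  · exact word_mem_closure hF D.IsPosRoot (fun r h => h.1) _ _ (mem_castW_pos D z hpos) rfl
  · have h0 : ((0 : ℕ) : F) = 0 := by simp
    rw [hs] at hchk
    have h1 := entryOK_sound 0 h0 D T hT (symC z) (Sum.inl ⟨j.val, hj'⟩)
      (Sum.inr ⟨D.neg (A.simple j.val), hb⟩) (cst 1) hchk (0 : F) 0 0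
    rw [evalWord_symC, evalParam_cst] at h1
    show D.wordMat F (castW F z) _ _ ≠ 0
    rw [h1]
    simp

theorem plain_append (wd wd' : List ℕ) : plain (wd ++ wd') = plain wd ++ plain wd' := by
  simp [plain]

/-- The product of the `n_{p_i}(1)` along a concatenation of blocks lies in a subgroup as soon as
the products along the blocks do. -/
theorem nw_flatten_mem (hF : AFacts A D) (G1 : Subgroup (GL D.Idx F)) :
    ∀ blocks : List (List ℕ), (∀ b ∈ blocks, nw hF F (plain b) ∈ G1) →
      nw hF F (plain blocks.flatten) ∈ G1 := by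
  intro blocks
  induction blocks with
  | nil =>
    intro _
    exact Subgroup.one_mem _
  | cons b l ih =>
    intro h
    rw [List.flatten_cons, plain_append, nw_append]
    exact Subgroup.mul_mem _ (h b List.mem_cons_self)
      (ih (fun b' hb' => h b' (List.mem_cons_of_mem _ hb')))

section

variable (hC : CFacts A D X m w)

include hC in
/-- The normal core of `B ⊓ G¹` in `G¹` is trivial, from engine checks. -/
theorem tw_core_of_checks {P P' Q Q' : ℕ → ℕ → ℤ} {d : ℕ → ℕ} {mm : ℕ → ℕ → ℤ}
    (hd : HOK A P P' Q Q' d mm) (blocks : List (List ℕ)) (hL : LFacts A X m blocks.flatten)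
    (T : List ℕ) (hT : TableOK D T) (S : Set (List (ℕ × F)))
    (hblk : ∀ b ∈ blocks, nw hC.af F (plain b) ∈ D.genSubgroup F S)
    (tests : ∀ j : Fin A.rank, ∃ z : List (ℕ × ℤ), castW F z ∈ S ∧ (∀ q ∈ z, D.IsPosRoot q.1) ∧
      entryOK 0 T D.rank D.nroots (symC z) j.val (D.rank + D.neg (D.simple j.val)) (cst 1) = true) :
    ((D.borelSubgroup F ⊓ D.genSubgroup F S).subgroupOf (D.genSubgroup F S)).normalCore = ⊥ := by
  apply tw_core hC hd (D.genSubgroup F S) (nw hC.af F (plain blocks.flatten))
    (nw_flatten_mem hC.af _ blocks hblk)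
  · intro b hb
    exact long_conj_borel hC hL hb
  · intro j
    obtain ⟨z, hz, hpos, hchk'⟩ := tests j
    exact test_of_entry hC.af T hT S z hz hpos j hchk'

end

end Cfsg.Agent.Lib.Helper19.TwGlue
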