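import Mathlib

/-!
Homomorphisms from `SL₂(F)`: two families `x, y : F → Γ` of elements of a group that are additive
and satisfy `w(t) x(u) = y(-u/t²) w(t)` and `h(tu) = h(t) h(u)` (with `w(t) = x(t) y(-1/t) x(t)`,
`h(t) = w(t) w(1)⁻¹`) come from a homomorphism `SL₂(F) → Γ` mapping the elementary matrices to
`x(t)`, `y(t)`.
-/

set_option autoImplicit false

namespace Cfsg.Agent.Lib.Helper19.SL2Hom

open Matrix

variable {F : Type*} [Field F] {Γ : Type*} [Group Γ]

/-- `w(t) = x(t) y(-1/t) x(t)` -/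
def w (x y : F → Γ) (t : F) : Γ := x t * y (-t⁻¹) * x t

/-- `h(t) = w(t) w(1)⁻¹` -/
def h (x y : F → Γ) (t : F) : Γ := w x y t * (w x y 1)⁻¹

/-- the relations of a rank one group -/
structure RankOne (x y : F → Γ) : Prop where
  x_add : ∀ s t, x (s + t) = x s * x t
  y_add : ∀ s t, y (s + t) = y s * y t
  rel : ∀ t u, t ≠ 0 → w x y t * x u = y (-(t ^ 2)⁻¹ * u) * w x y t
  h_mul : ∀ t u, t ≠ 0 → u ≠ 0 → h x y (t * u) = h x y t * h x y u

namespace RankOne

variable {x y : F → Γ} (R : RankOne x y)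
include R

theorem x_zero : x 0 = 1 := by
  have h := R.x_add 0 0
  rw [add_zero] at h
  exact (mul_eq_left).mp h.symm

theorem y_zero : y 0 = 1 := by
  have h := R.y_add 0 0
  rw [add_zero] at h
  exact (mul_eq_left).mp h.symm

theorem x_neg (t : F) : x (-t) = (x t)⁻¹ := by
  have h := R.x_add (-t) t
  rw [neg_add_cancel, R.x_zero] at h
  exact eq_inv_of_mul_eq_one_left h.symm

theorem y_neg (t : F) : y (-t) = (y t)⁻¹ := by
  have h := R.y_add (-t) t
  rw [neg_add_cancel, R.y_zero] at h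
  exact eq_inv_of_mul_eq_one_left h.symm

theorem w_inv (t : F) : (w x y t)⁻¹ = w x y (-t) := by
  have e : (-(-t)⁻¹ : F) = -(-t⁻¹) := by rw [inv_neg]
  unfold w
  rw [e, R.x_neg, R.y_neg]
  group

theorem rel_y (t v : F) (ht : t ≠ 0) : w x y t * y v = x (-(t ^ 2) * v) * w x y t := by
  have h := R.rel (-t) (-(t ^ 2) * v) (neg_ne_zero.mpr ht)
  have e : -((-t) ^ 2)⁻¹ * (-(t ^ 2) * v) = v := by
    field_simp
  rw [e, ← R.w_inv] at h
  calc w x y t * y v = w x y t * (y v * (w x y t)⁻¹) * w x y t := by group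
    _ = w x y t * ((w x y t)⁻¹ * x (-(t ^ 2) * v)) * w x y t := by rw [h]
    _ = x (-(t ^ 2) * v) * w x y t := by group

theorem rel_y' (t v : F) (ht : t ≠ 0) : y v * w x y (-t) = w x y (-t) * x (-(t ^ 2) * v) := by
  have h := R.rel_y t v ht
  rw [← R.w_inv]
  calc y v * (w x y t)⁻¹ = (w x y t)⁻¹ * (w x y t * y v) * (w x y t)⁻¹ := by group
    _ = (w x y t)⁻¹ * (x (-(t ^ 2) * v) * w x y t) * (w x y t)⁻¹ := by rw [h]
    _ = (w x y t)⁻¹ * x (-(t ^ 2) * v) := by group

theorem w_alt (t : F) (ht : t ≠ 0) : w x y t = y (-t⁻¹) * x t * y (-t⁻¹) := by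
  have h1 : w x y t * x t = y (-t⁻¹) * w x y t := by
    have h := R.rel t t ht
    have e : -(t ^ 2)⁻¹ * t = -t⁻¹ := by
      field_simp
    rwa [e] at h
  have h2 : w x y t * y (-t⁻¹) = x t * w x y t := by
    have h := R.rel_y t (-t⁻¹) ht
    have e : -(t ^ 2) * -t⁻¹ = t := by
      field_simp
    rwa [e] at h
  have h3 : w x y t * w x y t = y (-t⁻¹) * x t * y (-t⁻¹) * w x y t := by
    calc w x y t * w x y t = w x y t * x t * y (-t⁻¹) * x t := by
          show w x y t * (x t * y (-t⁻¹) * x t) = _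
          group
      _ = y (-t⁻¹) * (w x y t * y (-t⁻¹)) * x t := by
          rw [h1]
          group
      _ = y (-t⁻¹) * x t * (w x y t * x t) := by
          rw [h2]
          group
      _ = y (-t⁻¹) * x t * y (-t⁻¹) * w x y t := by
          rw [h1]
          group
  exact mul_right_cancel h3

theorem h_one : h x y 1 = 1 := mul_inv_cancel _

theorem h_inv (t : F) (ht : t ≠ 0) : (h x y t)⁻¹ = h x y t⁻¹ := by
  have h1 := R.h_mul t t⁻¹ ht (inv_ne_zero ht)
  rw [mul_inv_cancel₀ ht, R.h_one] at h1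
  exact inv_eq_of_mul_eq_one_right h1.symm

theorem w_eq (t : F) : w x y t = h x y t * w x y 1 := by
  unfold h
  group

theorem h_eq (t : F) : h x y t = w x y t * w x y (-1) := by
  unfold h
  rw [R.w_inv]

theorem w1_sq : w x y 1 * w x y 1 = h x y (-1) := by
  have h1 := R.h_inv (-1) (by norm_num)
  have e : ((-1 : F))⁻¹ = -1 := by norm_num
  rw [e] at h1
  rw [← h1, R.h_eq, ← R.w_inv]
  simp only [_root_.mul_inv_rev, inv_inv]

theorem h_x (t u : F) (ht : t ≠ 0) : h x y t * x u = x (t ^ 2 * u) * h x y t := by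
  have e1 : w x y (-1) * x u = y (-u) * w x y (-1) := by
    have h := R.rel (-1) u (by norm_num)
    have e : -((-1 : F) ^ 2)⁻¹ * u = -u := by norm_num
    rwa [e] at h
  have e2 : w x y t * y (-u) = x (t ^ 2 * u) * w x y t := by
    have h := R.rel_y t (-u) ht
    have e : -(t ^ 2) * -u = t ^ 2 * u := by ring
    rwa [e] at h
  calc h x y t * x u = w x y t * (w x y (-1) * x u) := by
        rw [R.h_eq]
        group
    _ = (w x y t * y (-u)) * w x y (-1) := by
        rw [e1]
        group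
    _ = x (t ^ 2 * u) * h x y t := by
        rw [e2, R.h_eq]
        group

theorem w_conj (t : F) (ht : t ≠ 0) : w x y 1 * w x y t = w x y t⁻¹ * w x y 1 := by
  have e1 : ∀ u, w x y 1 * x u = y (-u) * w x y 1 := by
    intro u
    have h := R.rel 1 u one_ne_zero
    have e : -((1 : F) ^ 2)⁻¹ * u = -u := by norm_num
    rwa [e] at h
  have e2 : ∀ v, w x y 1 * y v = x (-v) * w x y 1 := by
    intro v
    have h := R.rel_y 1 v one_ne_zero
    have e : -((1 : F) ^ 2) * v = -v := by norm_num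
    rwa [e] at h
  calc w x y 1 * w x y t = w x y 1 * x t * y (-t⁻¹) * x t := by
        show w x y 1 * (x t * y (-t⁻¹) * x t) = _
        group
    _ = y (-t) * (w x y 1 * y (-t⁻¹)) * x t := by
        rw [e1]
        group
    _ = y (-t) * x t⁻¹ * (w x y 1 * x t) := by
        rw [e2, neg_neg]
        group
    _ = y (-t) * x t⁻¹ * y (-t) * w x y 1 := by
        rw [e1]
        group
    _ = w x y t⁻¹ * w x y 1 := by
        rw [R.w_alt t⁻¹ (inv_ne_zero ht), inv_inv]

theorem w1_h (t : F) (ht : t ≠ 0) : w x y 1 * h x y t = h x y t⁻¹ * w x y 1 := by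
  unfold h
  calc w x y 1 * (w x y t * (w x y 1)⁻¹) = (w x y 1 * w x y t) * (w x y 1)⁻¹ := by group
    _ = w x y t⁻¹ * w x y 1 * (w x y 1)⁻¹ := by rw [R.w_conj t ht]
    _ = w x y t⁻¹ * (w x y 1)⁻¹ * w x y 1 := by group

theorem w_h (s δ : F) (hs : s ≠ 0) (hδ : δ ≠ 0) : w x y s * h x y δ = w x y (s / δ) := by
  rw [R.w_eq s, mul_assoc, R.w1_h δ hδ, ← mul_assoc, ← R.h_mul s δ⁻¹ hs (inv_ne_zero hδ),
    ← R.w_eq, div_eq_mul_inv]

theorem h_w (a s : F) (ha : a ≠ 0) (hs : s ≠ 0) : h x y a * w x y s = w x y (a * s) := by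
  rw [R.w_eq s, ← mul_assoc, ← R.h_mul a s ha hs, ← R.w_eq]

theorem w_w (s t : F) (hs : s ≠ 0) (ht : t ≠ 0) : w x y s * w x y t = h x y (-(s / t)) := by
  rw [R.w_eq s, R.w_eq t]
  calc h x y s * w x y 1 * (h x y t * w x y 1) = h x y s * (w x y 1 * h x y t) * w x y 1 := by
        group
    _ = h x y s * h x y t⁻¹ * (w x y 1 * w x y 1) := by
        rw [R.w1_h t ht]
        group
    _ = h x y (s * t⁻¹ * -1) := by
        rw [R.w1_sq, ← R.h_mul s t⁻¹ hs (inv_ne_zero ht),
          ← R.h_mul _ _ (mul_ne_zero hs (inv_ne_zero ht)) (by norm_num)]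
    _ = h x y (-(s / t)) := by
        congr 1
        field_simp

theorem y_eq (u : F) (hu : u ≠ 0) : y u = x u⁻¹ * w x y (-u⁻¹) * x u⁻¹ := by
  have e : w x y (-u⁻¹) = (x u⁻¹)⁻¹ * y u * (x u⁻¹)⁻¹ := by
    unfold w
    rw [R.x_neg, inv_neg, inv_inv, neg_neg]
  rw [e]
  group

theorem x_eq (v : F) (hv : v ≠ 0) : x v = y v⁻¹ * w x y v * y v⁻¹ := by
  rw [R.w_alt v hv, R.y_neg]
  group

/-- the rank one commutation relation -/
theorem xy (p u : F) (hu : u ≠ 0) (hδ : 1 + p * u ≠ 0) :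
    x p * y u = y (u / (1 + p * u)) * h x y (1 + p * u) * x (p / (1 + p * u)) := by
  have hv0 : p + u⁻¹ ≠ 0 := by
    intro h
    apply hδ
    field_simp at h
    linear_combination h
  have hu' : -u⁻¹ ≠ 0 := neg_ne_zero.mpr (inv_ne_zero hu)
  calc x p * y u = x p * (x u⁻¹ * w x y (-u⁻¹) * x u⁻¹) := by rw [← R.y_eq u hu]
    _ = x (p + u⁻¹) * w x y (-u⁻¹) * x u⁻¹ := by
        rw [R.x_add]
        group
    _ = y (p + u⁻¹)⁻¹ * w x y (p + u⁻¹) * (y (p + u⁻¹)⁻¹ * w x y (-u⁻¹)) * x u⁻¹ := by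
        rw [R.x_eq (p + u⁻¹) hv0]
        group
    _ = y (p + u⁻¹)⁻¹ * (w x y (p + u⁻¹) * w x y (-u⁻¹)) *
          (x (-(u⁻¹ ^ 2) * (p + u⁻¹)⁻¹) * x u⁻¹) := by
        rw [R.rel_y' u⁻¹ (p + u⁻¹)⁻¹ (inv_ne_zero hu)]
        group
    _ = y (p + u⁻¹)⁻¹ * h x y (-((p + u⁻¹) / -u⁻¹)) *
          x (-(u⁻¹ ^ 2) * (p + u⁻¹)⁻¹ + u⁻¹) := by
        rw [R.w_w _ _ hv0 hu', ← R.x_add]
    _ = y (u / (1 + p * u)) * h x y (1 + p * u) * x (p / (1 + p * u)) := by
        have e0 : p + u⁻¹ = (1 + p * u) / u := by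
          rw [eq_div_iff hu, add_mul, inv_mul_cancel₀ hu]
          ring
        have e1 : (p + u⁻¹)⁻¹ = u / (1 + p * u) := by rw [e0, inv_div]
        have e2 : -((p + u⁻¹) / -u⁻¹) = 1 + p * u := by
          rw [e0, div_neg, neg_neg, div_eq_mul_inv, inv_inv, div_mul_cancel₀ _ hu]
        have e3 : -(u⁻¹ ^ 2) * (p + u⁻¹)⁻¹ + u⁻¹ = p / (1 + p * u) := by
          rw [e1]
          generalize hq : 1 + p * u = q at hδ
          field_simp
          linear_combination (-1 : F) * hq
        rw [e3, e2, e1]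

/-! ### The five multiplication rules -/

theorem core1 (a b u : F) (ha : a ≠ 0) :
    x (a * (a * u + b)) * h x y a = x (a * b) * h x y a * x u := by
  rw [mul_assoc, R.h_x a u ha, ← mul_assoc, ← R.x_add]
  congr 2
  ring

theorem core2 (a c d u : F) (hc : c ≠ 0) :
    x (a / c) * w x y (-c⁻¹) * x ((c * u + d) / c) =
      x (a / c) * w x y (-c⁻¹) * x (d / c) * x u := by
  rw [mul_assoc _ (x (d / c)), ← R.x_add]
  congr 2
  field_simp
  ring

theorem core3 (a b d u : F) (had : a * d = 1) (hu : u ≠ 0) :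
    x ((a + b * u) / (d * u)) * w x y (-(d * u)⁻¹) * x (d / (d * u)) =
      x (a * b) * h x y a * y u := by
  have ha : a ≠ 0 := left_ne_zero_of_mul_eq_one had
  have hd : d ≠ 0 := right_ne_zero_of_mul_eq_one had
  have hd' : d = a⁻¹ := eq_inv_of_mul_eq_one_right had
  have hu' : -u⁻¹ ≠ 0 := neg_ne_zero.mpr (inv_ne_zero hu)
  calc x ((a + b * u) / (d * u)) * w x y (-(d * u)⁻¹) * x (d / (d * u))
      = x (a * b + a ^ 2 * u⁻¹) * w x y (a * -u⁻¹) * x u⁻¹ := by
        have e1 : (a + b * u) / (d * u) = a * b + a ^ 2 * u⁻¹ := by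
          rw [hd']
          field_simp
          ring
        have e2 : -(d * u)⁻¹ = a * -u⁻¹ := by
          rw [hd']
          field_simp
        have e3 : d / (d * u) = u⁻¹ := by
          field_simp
        rw [e1, e2, e3]
    _ = x (a * b) * (x (a ^ 2 * u⁻¹) * h x y a) * w x y (-u⁻¹) * x u⁻¹ := by
        rw [R.x_add, ← R.h_w a (-u⁻¹) ha hu']
        group
    _ = x (a * b) * h x y a * (x u⁻¹ * w x y (-u⁻¹) * x u⁻¹) := by
        rw [← R.h_x a u⁻¹ ha]
        group
    _ = x (a * b) * h x y a * y u := by rw [← R.y_eq u hu]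

theorem core4 (a b c d u : F) (hdet : a * d - b * c = 1) (hc : c ≠ 0) (hcd : c + d * u = 0) :
    x ((a + b * u) * b) * h x y (a + b * u) = x (a / c) * w x y (-c⁻¹) * x (d / c) * y u := by
  have hd : d ≠ 0 := by
    rintro rfl
    apply hc
    simpa using hcd
  have hu : u = -(d / c)⁻¹ := by
    field_simp
    linear_combination hcd
  have hc' : -c⁻¹ ≠ 0 := neg_ne_zero.mpr (inv_ne_zero hc)
  have hdc : d / c ≠ 0 := div_ne_zero hd hc
  have e0 : a + b * u = d⁻¹ := by
    rw [hu]
    field_simp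
    linear_combination hdet
  calc x ((a + b * u) * b) * h x y (a + b * u) = x (a / c + (d⁻¹) ^ 2 * -(d / c)) * h x y d⁻¹ := by
        have e1 : d⁻¹ * b = a / c + (d⁻¹) ^ 2 * -(d / c) := by
          field_simp
          linear_combination (-1 : F) * hdet
        rw [e0, e1]
    _ = x (a / c) * (h x y d⁻¹ * x (-(d / c))) := by
        rw [R.h_x d⁻¹ _ (inv_ne_zero hd), ← mul_assoc, ← R.x_add]
    _ = x (a / c) * (w x y (-c⁻¹) * w x y (d / c)) * x (-(d / c)) := by
        rw [R.w_w _ _ hc' hdc]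
        have e2 : -(-c⁻¹ / (d / c)) = d⁻¹ := by
          field_simp
        rw [e2]
        group
    _ = x (a / c) * w x y (-c⁻¹) * (x (d / c) * y (-(d / c)⁻¹)) := by
        have e3 : w x y (d / c) = x (d / c) * y (-(d / c)⁻¹) * x (d / c) := rfl
        rw [e3, R.x_neg]
        group
    _ = x (a / c) * w x y (-c⁻¹) * x (d / c) * y u := by
        rw [hu]
        group

theorem core5 (a b c d u : F) (hdet : a * d - b * c = 1) (hc : c ≠ 0) (hcd : c + d * u ≠ 0)
    (hu : u ≠ 0) :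
    x ((a + b * u) / (c + d * u)) * w x y (-(c + d * u)⁻¹) * x (d / (c + d * u)) =
      x (a / c) * w x y (-c⁻¹) * x (d / c) * y u := by
  have hδ : 1 + d / c * u ≠ 0 := by
    intro h
    apply hcd
    field_simp at h
    linear_combination h
  have hc' : -c⁻¹ ≠ 0 := neg_ne_zero.mpr (inv_ne_zero hc)
  symm
  calc x (a / c) * w x y (-c⁻¹) * x (d / c) * y u
      = x (a / c) * w x y (-c⁻¹) * (x (d / c) * y u) := by group
    _ = x (a / c) * (w x y (-c⁻¹) * y (u / (1 + d / c * u))) * h x y (1 + d / c * u) *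
          x (d / c / (1 + d / c * u)) := by
        rw [R.xy (d / c) u hu hδ]
        group
    _ = x (a / c) * x (-((-c⁻¹) ^ 2) * (u / (1 + d / c * u))) *
          (w x y (-c⁻¹) * h x y (1 + d / c * u)) * x (d / c / (1 + d / c * u)) := by
        rw [R.rel_y _ _ hc']
        group
    _ = x (a / c + -((-c⁻¹) ^ 2) * (u / (1 + d / c * u))) *
          w x y (-c⁻¹ / (1 + d / c * u)) * x (d / c / (1 + d / c * u)) := by
        rw [R.w_h _ _ hc' hδ, ← R.x_add]
    _ = x ((a + b * u) / (c + d * u)) * w x y (-(c + d * u)⁻¹) * x (d / (c + d * u)) := by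
        have e0 : 1 + d / c * u = (c + d * u) / c := by
          field_simp
        have e1 : a / c + -((-c⁻¹) ^ 2) * (u / (1 + d / c * u)) = (a + b * u) / (c + d * u) := by
          rw [e0]
          generalize hq : c + d * u = q at hcd
          field_simp
          linear_combination u * hdet - a * hq
        have e2 : -c⁻¹ / (1 + d / c * u) = -(c + d * u)⁻¹ := by
          rw [e0]
          generalize c + d * u = q at hcd
          field_simp
        have e3 : d / c / (1 + d / c * u) = d / (c + d * u) := by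
          rw [e0]
          generalize c + d * u = q at hcd
          field_simp
        rw [e1, e2, e3]

/-! ### Stability of the relations -/

/-- the relations are symmetric in the two families -/
theorem swap : RankOne y x := by
  have hw : ∀ t : F, t ≠ 0 → w y x t = w x y (-t⁻¹) := by
    intro t ht
    rw [R.w_alt (-t⁻¹) (neg_ne_zero.mpr (inv_ne_zero ht))]
    have e : -(-t⁻¹)⁻¹ = t := by rw [inv_neg, inv_inv, neg_neg]
    rw [e]
    rfl
  have hh : ∀ t : F, t ≠ 0 → h y x t = h x y t⁻¹ := by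
    intro t ht
    unfold h
    rw [hw t ht, hw 1 one_ne_zero, inv_one, R.w_inv, neg_neg]
    have e := R.w_w (-t⁻¹) 1 (neg_ne_zero.mpr (inv_ne_zero ht)) one_ne_zero
    rw [e, div_one, neg_neg]
    rfl
  refine ⟨R.y_add, R.x_add, ?_, ?_⟩
  · intro t u ht
    rw [hw t ht, R.rel_y (-t⁻¹) u (neg_ne_zero.mpr (inv_ne_zero ht))]
    have e : -(-t⁻¹) ^ 2 * u = -(t ^ 2)⁻¹ * u := by
      rw [neg_sq, inv_pow]
    rw [e]
  · intro t u ht hu
    rw [hh t ht, hh u hu, hh (t * u) (mul_ne_zero ht hu), _root_.mul_inv,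
      R.h_mul _ _ (inv_ne_zero ht) (inv_ne_zero hu)]

/-- the relations are stable under the change of parameter `t ↦ -t` -/
theorem twist_neg : RankOne (fun t => x (-t)) (fun t => y (-t)) := by
  have hw : ∀ t : F, w (fun t => x (-t)) (fun t => y (-t)) t = w x y (-t) := by
    intro t
    simp only [w, inv_neg]
  have hh : ∀ t : F, t ≠ 0 → h (fun t => x (-t)) (fun t => y (-t)) t = h x y t := by
    intro t ht
    unfold h
    rw [hw, hw, R.w_inv, neg_neg, R.w_w (-t) 1 (neg_ne_zero.mpr ht) one_ne_zero, div_one, neg_neg]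
    rfl
  refine ⟨?_, ?_, ?_, ?_⟩
  · intro s t
    show x (-(s + t)) = x (-s) * x (-t)
    rw [neg_add, R.x_add]
  · intro s t
    show y (-(s + t)) = y (-s) * y (-t)
    rw [neg_add, R.y_add]
  · intro t u ht
    rw [hw]
    show w x y (-t) * x (-u) = y (-(-(t ^ 2)⁻¹ * u)) * w x y (-t)
    rw [R.rel (-t) (-u) (neg_ne_zero.mpr ht)]
    have e : -((-t) ^ 2)⁻¹ * -u = -(-(t ^ 2)⁻¹ * u) := by
      rw [neg_sq]
      ring
    rw [e]
  · intro t u ht hu
    rw [hh t ht, hh u hu, hh (t * u) (mul_ne_zero ht hu), R.h_mul t u ht hu]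

/-- the relations are stable under the change of parameter `t ↦ η t` for a sign `η` -/
theorem twist (η : F) (hη : η = 1 ∨ η = -1) : RankOne (fun t => x (η * t)) (fun t => y (η * t)) := by
  rcases hη with rfl | rfl
  · simp only [one_mul]
    exact R
  · simp only [neg_one_mul]
    exact R.twist_neg

/-- the relations are preserved by homomorphisms -/
theorem map {Γ' : Type*} [Group Γ'] (f : Γ →* Γ') :
    RankOne (fun t => f (x t)) (fun t => f (y t)) := by
  have hw : ∀ t : F, w (fun t => f (x t)) (fun t => f (y t)) t = f (w x y t) := by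
    intro t
    simp only [w, map_mul]
  have hh : ∀ t : F, h (fun t => f (x t)) (fun t => f (y t)) t = f (h x y t) := by
    intro t
    unfold h
    rw [hw, hw, map_mul, map_inv]
  refine ⟨?_, ?_, ?_, ?_⟩
  · intro s t
    show f (x (s + t)) = f (x s) * f (x t)
    rw [R.x_add, map_mul]
  · intro s t
    show f (y (s + t)) = f (y s) * f (y t)
    rw [R.y_add, map_mul]
  · intro t u ht
    rw [hw]
    show f (w x y t) * f (x u) = f (y (-(t ^ 2)⁻¹ * u)) * f (w x y t)
    rw [← map_mul, ← map_mul, R.rel t u ht]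
  · intro t u ht hu
    rw [hh, hh, hh, ← map_mul, R.h_mul t u ht hu]

end RankOne

/-! ### The homomorphism -/

/-- the upper unitriangular matrix -/
def upper (t : F) : SpecialLinearGroup (Fin 2) F :=
  ⟨!![1, t; 0, 1], by simp [Matrix.det_fin_two]⟩

/-- the lower unitriangular matrix -/
def lower (t : F) : SpecialLinearGroup (Fin 2) F :=
  ⟨!![1, 0; t, 1], by simp [Matrix.det_fin_two]⟩

open Classical in
/-- the map `SL₂(F) → Γ` given by the Bruhat normal form -/
noncomputable def phi (x y : F → Γ) (g : SpecialLinearGroup (Fin 2) F) : Γ :=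
  if g.1 1 0 = 0 then x (g.1 0 0 * g.1 0 1) * h x y (g.1 0 0)
  else x (g.1 0 0 / g.1 1 0) * w x y (-(g.1 1 0)⁻¹) * x (g.1 1 1 / g.1 1 0)

theorem det_eq (g : SpecialLinearGroup (Fin 2) F) :
    g.1 0 0 * g.1 1 1 - g.1 0 1 * g.1 1 0 = 1 := by
  have h := g.2
  rwa [Matrix.det_fin_two] at h

theorem mul_upper_entries (g : SpecialLinearGroup (Fin 2) F) (u : F) :
    (g * upper u).1 0 0 = g.1 0 0 ∧ (g * upper u).1 0 1 = g.1 0 0 * u + g.1 0 1 ∧
    (g * upper u).1 1 0 = g.1 1 0 ∧ (g * upper u).1 1 1 = g.1 1 0 * u + g.1 1 1 := by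
  have e : (g * upper u).1 = g.1 * (upper u).1 := rfl
  rw [e]
  refine ⟨?_, ?_, ?_, ?_⟩ <;>
    simp [upper, Matrix.mul_apply, Fin.sum_univ_two]

theorem mul_lower_entries (g : SpecialLinearGroup (Fin 2) F) (u : F) :
    (g * lower u).1 0 0 = g.1 0 0 + g.1 0 1 * u ∧ (g * lower u).1 0 1 = g.1 0 1 ∧
    (g * lower u).1 1 0 = g.1 1 0 + g.1 1 1 * u ∧ (g * lower u).1 1 1 = g.1 1 1 := by
  have e : (g * lower u).1 = g.1 * (lower u).1 := rfl
  rw [e]
  refine ⟨?_, ?_, ?_, ?_⟩ <;>
    simp [lower, Matrix.mul_apply, Fin.sum_univ_two]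

theorem lower_zero : lower (0 : F) = 1 := by
  ext i j
  fin_cases i <;> fin_cases j <;> simp [lower]

variable {x y : F → Γ}

theorem phi_mul_upper (R : RankOne x y) (g : SpecialLinearGroup (Fin 2) F) (u : F) :
    phi x y (g * upper u) = phi x y g * x u := by
  obtain ⟨e00, e01, e10, e11⟩ := mul_upper_entries g u
  have hdet := det_eq g
  unfold phi
  rw [e00, e01, e10, e11]
  by_cases hc : g.1 1 0 = 0
  · rw [if_pos hc, if_pos hc]
    have ha : g.1 0 0 ≠ 0 := by
      intro h0
      rw [h0, hc] at hdet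
      simp at hdet
    exact R.core1 _ _ _ ha
  · rw [if_neg hc, if_neg hc]
    exact R.core2 _ _ _ _ hc

theorem phi_mul_lower (R : RankOne x y) (g : SpecialLinearGroup (Fin 2) F) (u : F) :
    phi x y (g * lower u) = phi x y g * y u := by
  by_cases hu : u = 0
  · subst hu
    rw [lower_zero, mul_one, R.y_zero, mul_one]
  obtain ⟨e00, e01, e10, e11⟩ := mul_lower_entries g u
  have hdet := det_eq g
  unfold phi
  rw [e00, e01, e10, e11]
  by_cases hc : g.1 1 0 = 0
  · have had : g.1 0 0 * g.1 1 1 = 1 := by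
      rw [hc] at hdet
      simpa using hdet
    have hd : g.1 1 1 ≠ 0 := right_ne_zero_of_mul_eq_one had
    have hc' : g.1 1 0 + g.1 1 1 * u ≠ 0 := by
      rw [hc, zero_add]
      exact mul_ne_zero hd hu
    rw [if_neg hc', if_pos hc, hc, zero_add]
    exact R.core3 _ _ _ _ had hu
  · rw [if_neg hc]
    by_cases hcd : g.1 1 0 + g.1 1 1 * u = 0
    · rw [if_pos hcd]
      exact R.core4 _ _ _ _ _ hdet hc hcd
    · rw [if_neg hcd]
      exact R.core5 _ _ _ _ _ hdet hc hcd hu

theorem phi_one (R : RankOne x y) : phi x y 1 = 1 := by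
  unfold phi
  simp [R.x_zero, R.h_one]

theorem phi_upper (R : RankOne x y) (u : F) : phi x y (upper u) = x u := by
  have e := phi_mul_upper R 1 u
  rwa [one_mul, phi_one R, one_mul] at e

theorem phi_lower (R : RankOne x y) (u : F) : phi x y (lower u) = y u := by
  have e := phi_mul_lower R 1 u
  rwa [one_mul, phi_one R, one_mul] at e

theorem decomp (g : SpecialLinearGroup (Fin 2) F) (hc : g.1 1 0 ≠ 0) :
    g = upper ((g.1 0 0 - 1) / g.1 1 0) * lower (g.1 1 0) * upper ((g.1 1 1 - 1) / g.1 1 0) := by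
  have hdet := det_eq g
  have key : g.1 = (upper ((g.1 0 0 - 1) / g.1 1 0)).1 * (lower (g.1 1 0)).1 *
      (upper ((g.1 1 1 - 1) / g.1 1 0)).1 := by
    ext i j
    fin_cases i <;> fin_cases j
    · simp [upper, lower, Matrix.mul_apply, Fin.sum_univ_two]
      field_simp
      ring
    · simp [upper, lower, Matrix.mul_apply, Fin.sum_univ_two]
      field_simp
      linear_combination (-1 : F) * hdet
    · simp [upper, lower, Matrix.mul_apply, Fin.sum_univ_two]
    · simp [upper, lower, Matrix.mul_apply, Fin.sum_univ_two]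
      field_simp
      ring
  exact Subtype.ext key

theorem phi_mul_of_ne (R : RankOne x y) (k g : SpecialLinearGroup (Fin 2) F)
    (hc : g.1 1 0 ≠ 0) : phi x y (k * g) = phi x y k * phi x y g := by
  have hg := decomp g hc
  generalize (g.1 0 0 - 1) / g.1 1 0 = p at hg
  generalize (g.1 1 1 - 1) / g.1 1 0 = q at hg
  generalize g.1 1 0 = c at hg
  subst hg
  rw [← mul_assoc, ← mul_assoc, phi_mul_upper R, phi_mul_lower R, phi_mul_upper R,
    phi_mul_upper R, phi_mul_lower R, phi_upper R]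
  simp only [mul_assoc]

theorem phi_mul (R : RankOne x y) (k g : SpecialLinearGroup (Fin 2) F) :
    phi x y (k * g) = phi x y k * phi x y g := by
  by_cases hc : g.1 1 0 = 0
  · have hdet := det_eq g
    have hd : g.1 1 1 ≠ 0 := by
      intro h0
      rw [h0, hc] at hdet
      simp at hdet
    have hc' : (g * lower 1).1 1 0 ≠ 0 := by
      rw [(mul_lower_entries g 1).2.2.1, hc, zero_add, mul_one]
      exact hd
    have e1 : phi x y (k * (g * lower 1)) = phi x y (k * g) * y 1 := by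
      rw [← mul_assoc]
      exact phi_mul_lower R (k * g) 1
    rw [phi_mul_of_ne R k (g * lower 1) hc', phi_mul_lower R g 1, ← mul_assoc] at e1
    exact (mul_right_cancel e1).symm
  · exact phi_mul_of_ne R k g hc

theorem phi_mem (x y : F → Γ) (g : SpecialLinearGroup (Fin 2) F) :
    phi x y g ∈ Subgroup.closure (Set.range x ∪ Set.range y) := by
  have hx : ∀ t, x t ∈ Subgroup.closure (Set.range x ∪ Set.range y) :=
    fun t => Subgroup.subset_closure (Or.inl ⟨t, rfl⟩)
  have hy : ∀ t, y t ∈ Subgroup.closure (Set.range x ∪ Set.range y) :=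
    fun t => Subgroup.subset_closure (Or.inr ⟨t, rfl⟩)
  have hw : ∀ t, w x y t ∈ Subgroup.closure (Set.range x ∪ Set.range y) :=
    fun t => Subgroup.mul_mem _ (Subgroup.mul_mem _ (hx _) (hy _)) (hx _)
  have hh : ∀ t, h x y t ∈ Subgroup.closure (Set.range x ∪ Set.range y) :=
    fun t => Subgroup.mul_mem _ (hw _) (Subgroup.inv_mem _ (hw _))
  unfold phi
  split_ifs
  · exact Subgroup.mul_mem _ (hx _) (hh _)
  · exact Subgroup.mul_mem _ (Subgroup.mul_mem _ (hx _) (hw _)) (hx _)

/-- two families of elements of a group satisfying the relations of `SL₂` come from a homomorphism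
defined on `SL₂(F)`, whose range is the subgroup they generate -/
theorem exists_hom (R : RankOne x y) : ∃ φ : SpecialLinearGroup (Fin 2) F →* Γ,
    φ.range = Subgroup.closure (Set.range x ∪ Set.range y) ∧
    ∀ (g : SpecialLinearGroup (Fin 2) F) (t : F),
      ((g : Matrix (Fin 2) (Fin 2) F) = !![1, t; 0, 1] → φ g = x t) ∧
      ((g : Matrix (Fin 2) (Fin 2) F) = !![1, 0; t, 1] → φ g = y t) := by
  refine ⟨⟨⟨phi x y, phi_one R⟩, phi_mul R⟩, ?_, ?_⟩
  · apply le_antisymm
    · rintro _ ⟨g, rfl⟩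
      exact phi_mem x y g
    · apply (Subgroup.closure_le _).mpr
      rintro _ (⟨t, rfl⟩ | ⟨t, rfl⟩)
      · exact ⟨upper t, phi_upper R t⟩
      · exact ⟨lower t, phi_lower R t⟩
  · intro g t
    constructor
    · intro hg
      have e : g = upper t := Subtype.ext hg
      rw [e]
      exact phi_upper R t
    · intro hg
      have e : g = lower t := Subtype.ext hg
      rw [e]
      exact phi_lower R t

end Cfsg.Agent.Lib.Helper19.SL2Hom
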