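import Cfsg.Agent.Lib.Helper36.ChevBraid
import Cfsg.Prelude.Def_ChevG2
import Cfsg.Prelude.Def_ChevB2
import Cfsg.Prelude.Def_ChevD4
import Cfsg.Prelude.Def_ChevF4
import Cfsg.Prelude.Def_ChevE6
import Cfsg.Prelude.Def_ChevE7
import Cfsg.Prelude.Def_ChevE8

/-!
Compatibility of the reflections in the fundamental roots with negation of roots, for the seven
tabulated Chevalley data (only the checks of the rows `negRow`, without the braid relations).
-/

set_option autoImplicit false

namespace Cfsg.Agent.Lib.Helper19.NegRows

open Cfsg Cfsg.Lie Cfsg.Agent.Lib.Helper36.ChevBraid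

set_option maxRecDepth 100000 in
theorem nrowG2x0 : negRow chevG2 0 = true := by decide +kernel

set_option maxRecDepth 100000 in
theorem nrowG2x1 : negRow chevG2 1 = true := by decide +kernel

theorem nrowsG2 : ∀ i < chevG2.rank, negRow chevG2 i = true := by
  intro i hi
  have hr : chevG2.rank = 2 := rfl
  rw [hr] at hi
  interval_cases i
  · exact nrowG2x0
  · exact nrowG2x1

set_option maxRecDepth 100000 in
theorem nrowB2x0 : negRow chevB2 0 = true := by decide +kernel

set_option maxRecDepth 100000 in
theorem nrowB2x1 : negRow chevB2 1 = true := by decide +kernel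

theorem nrowsB2 : ∀ i < chevB2.rank, negRow chevB2 i = true := by
  intro i hi
  have hr : chevB2.rank = 2 := rfl
  rw [hr] at hi
  interval_cases i
  · exact nrowB2x0
  · exact nrowB2x1

set_option maxRecDepth 100000 in
theorem nrowD4x0 : negRow chevD4 0 = true := by decide +kernel

set_option maxRecDepth 100000 in
theorem nrowD4x1 : negRow chevD4 1 = true := by decide +kernel

set_option maxRecDepth 100000 in
theorem nrowD4x2 : negRow chevD4 2 = true := by decide +kernel

set_option maxRecDepth 100000 in
theorem nrowD4x3 : negRow chevD4 3 = true := by decide +kernel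

theorem nrowsD4 : ∀ i < chevD4.rank, negRow chevD4 i = true := by
  intro i hi
  have hr : chevD4.rank = 4 := rfl
  rw [hr] at hi
  interval_cases i
  · exact nrowD4x0
  · exact nrowD4x1
  · exact nrowD4x2
  · exact nrowD4x3

set_option maxRecDepth 100000 in
theorem nrowF4x0 : negRow chevF4 0 = true := by decide +kernel

set_option maxRecDepth 100000 in
theorem nrowF4x1 : negRow chevF4 1 = true := by decide +kernel

set_option maxRecDepth 100000 in
theorem nrowF4x2 : negRow chevF4 2 = true := by decide +kernel

set_option maxRecDepth 100000 in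
theorem nrowF4x3 : negRow chevF4 3 = true := by decide +kernel

theorem nrowsF4 : ∀ i < chevF4.rank, negRow chevF4 i = true := by
  intro i hi
  have hr : chevF4.rank = 4 := rfl
  rw [hr] at hi
  interval_cases i
  · exact nrowF4x0
  · exact nrowF4x1
  · exact nrowF4x2
  · exact nrowF4x3

set_option maxRecDepth 100000 in
theorem nrowE6x0 : negRow chevE6 0 = true := by decide +kernel

set_option maxRecDepth 100000 in
theorem nrowE6x1 : negRow chevE6 1 = true := by decide +kernel

set_option maxRecDepth 100000 in
theorem nrowE6x2 : negRow chevE6 2 = true := by decide +kernel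

set_option maxRecDepth 100000 in
theorem nrowE6x3 : negRow chevE6 3 = true := by decide +kernel

set_option maxRecDepth 100000 in
theorem nrowE6x4 : negRow chevE6 4 = true := by decide +kernel

set_option maxRecDepth 100000 in
theorem nrowE6x5 : negRow chevE6 5 = true := by decide +kernel

theorem nrowsE6 : ∀ i < chevE6.rank, negRow chevE6 i = true := by
  intro i hi
  have hr : chevE6.rank = 6 := rfl
  rw [hr] at hi
  interval_cases i
  · exact nrowE6x0
  · exact nrowE6x1
  · exact nrowE6x2
  · exact nrowE6x3
  · exact nrowE6x4
  · exact nrowE6x5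

set_option maxRecDepth 100000 in
theorem nrowE7x0 : negRow chevE7 0 = true := by decide +kernel

set_option maxRecDepth 100000 in
theorem nrowE7x1 : negRow chevE7 1 = true := by decide +kernel

set_option maxRecDepth 100000 in
theorem nrowE7x2 : negRow chevE7 2 = true := by decide +kernel

set_option maxRecDepth 100000 in
theorem nrowE7x3 : negRow chevE7 3 = true := by decide +kernel

set_option maxRecDepth 100000 in
theorem nrowE7x4 : negRow chevE7 4 = true := by decide +kernel

set_option maxRecDepth 100000 in
theorem nrowE7x5 : negRow chevE7 5 = true := by decide +kernel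

set_option maxRecDepth 100000 in
theorem nrowE7x6 : negRow chevE7 6 = true := by decide +kernel

theorem nrowsE7 : ∀ i < chevE7.rank, negRow chevE7 i = true := by
  intro i hi
  have hr : chevE7.rank = 7 := rfl
  rw [hr] at hi
  interval_cases i
  · exact nrowE7x0
  · exact nrowE7x1
  · exact nrowE7x2
  · exact nrowE7x3
  · exact nrowE7x4
  · exact nrowE7x5
  · exact nrowE7x6

set_option maxRecDepth 100000 in
theorem nrowE8x0 : negRow chevE8 0 = true := by decide +kernel

set_option maxRecDepth 100000 in
theorem nrowE8x1 : negRow chevE8 1 = true := by decide +kernel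

set_option maxRecDepth 100000 in
theorem nrowE8x2 : negRow chevE8 2 = true := by decide +kernel

set_option maxRecDepth 100000 in
theorem nrowE8x3 : negRow chevE8 3 = true := by decide +kernel

set_option maxRecDepth 100000 in
theorem nrowE8x4 : negRow chevE8 4 = true := by decide +kernel

set_option maxRecDepth 100000 in
theorem nrowE8x5 : negRow chevE8 5 = true := by decide +kernel

set_option maxRecDepth 100000 in
theorem nrowE8x6 : negRow chevE8 6 = true := by decide +kernel

set_option maxRecDepth 100000 in
theorem nrowE8x7 : negRow chevE8 7 = true := by decide +kernel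

theorem nrowsE8 : ∀ i < chevE8.rank, negRow chevE8 i = true := by
  intro i hi
  have hr : chevE8.rank = 8 := rfl
  rw [hr] at hi
  interval_cases i
  · exact nrowE8x0
  · exact nrowE8x1
  · exact nrowE8x2
  · exact nrowE8x3
  · exact nrowE8x4
  · exact nrowE8x5
  · exact nrowE8x6
  · exact nrowE8x7

/-- the reflection in a fundamental root commutes with negation of roots; negation is an
involution of the set of roots -/
theorem refl_neg (D : ChevalleyDatum)
    (hD : D ∈ [chevG2, chevB2, chevD4, chevF4, chevE6, chevE7, chevE8]) (i : ℕ) (hi : i < D.rank)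
    (s : ℕ) (hs : s < D.nroots) :
    D.reflectRoot i (D.neg s) = D.neg (D.reflectRoot i s) ∧
      D.reflectRoot i (D.reflectRoot i s) = s ∧ D.neg (D.neg s) = s ∧ D.neg s < D.nroots := by
  simp only [List.mem_cons, List.not_mem_nil, or_false] at hD
  rcases hD with rfl | rfl | rfl | rfl | rfl | rfl | rfl
  · exact neg_of_rows chevG2 nrowsG2 i hi s hs
  · exact neg_of_rows chevB2 nrowsB2 i hi s hs
  · exact neg_of_rows chevD4 nrowsD4 i hi s hs
  · exact neg_of_rows chevF4 nrowsF4 i hi s hs
  · exact neg_of_rows chevE6 nrowsE6 i hi s hs
  · exact neg_of_rows chevE7 nrowsE7 i hi s hs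
  · exact neg_of_rows chevE8 nrowsE8 i hi s hs

end Cfsg.Agent.Lib.Helper19.NegRows
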