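import Cfsg.Agent.Lib.Helper19.SL2Hom
import Cfsg.Agent.Lib.Helper36.ChevGen
import Cfsg.Agent.Lib.Helper18.Torus
import Mathlib

set_option autoImplicit false

/-!
For every root `r` of a tabulated Chevalley datum, the root elements `x_r(t)`, `x_{-r}(t)` satisfy
the relations of `SL₂`; hence there is a homomorphism from `SL₂(F)` onto the subgroup generated by
the two root subgroups.
-/

namespace Cfsg.Agent.Lib.Helper19.SL2Chev

open Cfsg Cfsg.Lie Cfsg.Agent.Lib.Helper19.SL2Hom
  Cfsg.Agent.Lib.Helper18.Fast Cfsg.Agent.Lib.Helper18.AllRoots Cfsg.Agent.Lib.Helper18.Facts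
  Cfsg.Agent.Lib.Helper18.Grade Cfsg.Agent.Lib.Helper18.Torus
  Cfsg.Agent.Lib.Helper36.ChevWeyl Cfsg.Agent.Lib.Helper36.ChevGen

variable {A : FData} {D : ChevalleyDatum} {F : Type*} [Field F]

/-- the root elements of the roots `r`, `-r` satisfy the relations of `SL₂` -/
def IsRankOne (D : ChevalleyDatum) (W : WeylData D F) (r : ℕ) : Prop :=
  RankOne (fun t : F => xU D W.inv r t) (fun t : F => xU D W.inv (D.neg r) t)

theorem xU_add (W : WeylData D F)
    (hadd : ∀ r < D.nroots, ∀ t u : F, D.x F r t * D.x F r u = D.x F r (t + u))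
    (r : ℕ) (hr : r < D.nroots) (s t : F) :
    xU D W.inv r (s + t) = xU D W.inv r s * xU D W.inv r t := by
  apply Units.ext
  rw [Units.val_mul, xU_val, xU_val, xU_val, hadd r hr]

theorem xU_inv (W : WeylData D F) (r : ℕ) (t : F) :
    (xU D W.inv r t)⁻¹ = xU D W.inv r (-t) := Units.ext rfl

theorem w_val (W : WeylData D F) (r : ℕ) (t : F) :
    ((w (fun t : F => xU D W.inv r t) (fun t : F => xU D W.inv (D.neg r) t) t : GL D.Idx F) :
      Matrix D.Idx D.Idx F) = D.nMat F r t := by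
  simp [w, xU_val, ChevalleyDatum.nMat, ChevalleyDatum.nWord, ChevalleyDatum.wordMat, mul_assoc]

theorem w_one_inv (W : WeylData D F) (r : ℕ) :
    (w (fun t : F => xU D W.inv r t) (fun t : F => xU D W.inv (D.neg r) t) 1)⁻¹ =
      w (fun t : F => xU D W.inv r t) (fun t : F => xU D W.inv (D.neg r) t) (-1) := by
  simp only [w, _root_.mul_inv_rev, xU_inv W, inv_one, inv_neg, neg_neg, mul_assoc]

theorem h_val (W : WeylData D F) (r : ℕ) (t : F) :
    ((h (fun t : F => xU D W.inv r t) (fun t : F => xU D W.inv (D.neg r) t) t : GL D.Idx F) :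
      Matrix D.Idx D.Idx F) = D.hMat F r t := by
  unfold h
  rw [w_one_inv W, Units.val_mul, w_val W, w_val W]
  simp [ChevalleyDatum.hMat, ChevalleyDatum.hWord, ChevalleyDatum.nMat, ChevalleyDatum.nWord,
    ChevalleyDatum.wordMat, mul_assoc]

theorem chi_zpow (r : ℕ) {t : F} (ht : t ≠ 0) (b : ℕ) :
    chi A (fun i => t ^ A.cor r i) b = t ^ pairE A r b := by
  unfold chi chiN pairE
  rw [zpow_sum_aux ht]
  apply Finset.prod_congr rfl
  intro i _
  rw [zpow_mul]

/-- `h_r(t) x_s(u) = x_s(t^⟨s, r⟩ u) h_r(t)` -/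
theorem hMat_mul_x (hF : AFacts A D) {r s : ℕ} (hr : r < D.nroots) (hs : s < D.nroots) {t : F}
    (ht : t ≠ 0) (u : F) :
    D.hMat F r t * D.x F s u = D.x F s (t ^ pairE A r s * u) * D.hMat F r t := by
  rw [hMat_eq_tor hF hr ht, tor_mul_x hF hs (fun i => zpow_ne_zero _ ht), chi_zpow r ht]

theorem hMat_mul (hF : AFacts A D) {r : ℕ} (hr : r < D.nroots) {t u : F} (ht : t ≠ 0)
    (hu : u ≠ 0) : D.hMat F r (t * u) = D.hMat F r t * D.hMat F r u := by
  rw [hMat_eq_tor hF hr (mul_ne_zero ht hu), hMat_eq_tor hF hr ht, hMat_eq_tor hF hr hu,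
    tor_mul_tor]
  congr 1
  funext i
  rw [mul_zpow]

/-- the relations for a fundamental root -/
theorem base (hF : AFacts A D) (W : WeylData D F)
    (hadd : ∀ r < D.nroots, ∀ t u : F, D.x F r t * D.x F r u = D.x F r (t + u))
    (i : ℕ) (hi : i < D.rank) : IsRankOne D W (D.simple i) := by
  obtain ⟨η, wr⟩ := W.root i hi
  have hp := wr.simple_lt
  have hnp := wr.neg_lt
  refine ⟨xU_add W hadd _ hp, xU_add W hadd _ hnp, ?_, ?_⟩
  · intro t u ht
    have hn : D.nMat F (D.simple i) t = D.hMat F (D.simple i) t * D.nMat F (D.simple i) 1 := by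
      rw [← w_val W (D.simple i) t, ← h_val W (D.simple i) t, ← w_val W (D.simple i) 1, ← Units.val_mul]
      congr 1
      unfold h
      group
    have hrel : D.nMat F (D.simple i) 1 * D.x F (D.simple i) u =
        D.x F (D.neg (D.simple i)) (-u) * D.nMat F (D.simple i) 1 := by
      have e := wr.rel (D.simple i) hp u
      have e1 : D.reflectRoot i (D.simple i) = D.neg (D.simple i) := by
        unfold ChevalleyDatum.reflectRoot
        simp
      have e2 : ((η (D.simple i) : ℤ) : F) * u = -u := by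
        rw [wr.eta_simple]
        simp
      rw [e1, e2] at e
      exact e
    have hpair : pairE A (D.simple i) (D.neg (D.simple i)) = -2 := by
      rw [Cfsg.Agent.Lib.Helper18.Sub.neg_eq_fast hF hp]
      exact (hF.sfacts.pair_self _ (hF.agrees.n_eq ▸ hp)).2
    have htor := hMat_mul_x hF hp hnp ht (-u)
    rw [hpair] at htor
    have e3 : t ^ (-2 : ℤ) * -u = -(t ^ 2)⁻¹ * u := by
      rw [zpow_neg, zpow_ofNat]
      ring
    rw [e3] at htor
    apply Units.ext
    rw [Units.val_mul, Units.val_mul, w_val W, xU_val, xU_val, hn, mul_assoc, hrel, ← mul_assoc,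
      htor, mul_assoc]
  · intro t u ht hu
    apply Units.ext
    rw [Units.val_mul, h_val W, h_val W, h_val W, hMat_mul hF hp ht hu]

/-- the relations for `s` from those for its image under a fundamental reflection -/
theorem step (hF : AFacts A D) (W : WeylData D F)
    (hneg : ∀ i < D.rank, ∀ s < D.nroots, D.reflectRoot i (D.neg s) = D.neg (D.reflectRoot i s))
    (i : ℕ) (hi : i < D.rank) (s : ℕ) (hs : s < D.nroots)
    (hR : IsRankOne D W (D.reflectRoot i s)) : IsRankOne D W s := by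
  obtain ⟨η, wr⟩ := W.root i hi
  have hns := Cfsg.Agent.Lib.Helper18.Sub.neg_lt hF hs
  have hη : ((η s : ℤ) : F) = 1 ∨ ((η s : ℤ) : F) = -1 := by
    rcases wr.sign s hs with h | h
    · left
      rw [h]
      simp
    · right
      rw [h]
      simp
  have hηn : η (D.neg s) = η s := by
    have h1 := (wr.eta_refl s hs).2
    rcases wr.sign s hs with h | h <;> rcases wr.sign (D.neg s) hns with h' | h' <;>
      simp [h, h'] at h1 ⊢
  have R2 := (hR.twist ((η s : ℤ) : F) hη).map (MulAut.conj (nU D W.inv i)⁻¹).toMonoidHom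
  have ex : (fun t : F => xU D W.inv s t) = fun t : F =>
      (MulAut.conj (nU D W.inv i)⁻¹).toMonoidHom
        (xU D W.inv (D.reflectRoot i s) (((η s : ℤ) : F) * t)) := by
    funext t
    have h1 := nU_mul D W i η wr s hs t (xU D W.inv s t)
      (xU D W.inv (D.reflectRoot i s) (((η s : ℤ) : F) * t)) rfl rfl
    show _ = (nU D W.inv i)⁻¹ * _ * ((nU D W.inv i)⁻¹)⁻¹
    rw [inv_inv, mul_assoc, ← h1, inv_mul_cancel_left]
  have ey : (fun t : F => xU D W.inv (D.neg s) t) = fun t : F =>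
      (MulAut.conj (nU D W.inv i)⁻¹).toMonoidHom
        (xU D W.inv (D.neg (D.reflectRoot i s)) (((η s : ℤ) : F) * t)) := by
    funext t
    have h1 := nU_mul D W i η wr (D.neg s) hns t (xU D W.inv (D.neg s) t)
      (xU D W.inv (D.neg (D.reflectRoot i s)) (((η s : ℤ) : F) * t)) rfl
      (by rw [xU_val, hneg i hi s hs, hηn])
    show _ = (nU D W.inv i)⁻¹ * _ * ((nU D W.inv i)⁻¹)⁻¹
    rw [inv_inv, mul_assoc, ← h1, inv_mul_cancel_left]
  unfold IsRankOne
  rw [ex, ey]
  exact R2

/-- the relations for all roots -/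
theorem all (hF : AFacts A D) (W : WeylData D F)
    (hadd : ∀ r < D.nroots, ∀ t u : F, D.x F r t * D.x F r u = D.x F r (t + u))
    (hneg : ∀ i < D.rank, ∀ s < D.nroots, D.reflectRoot i (D.neg s) = D.neg (D.reflectRoot i s))
    (s : ℕ) (hs : s < D.nroots) : IsRankOne D W s := by
  have key : ∀ s < D.nroots, s < D.nroots → IsRankOne D W s := by
    apply W.reach (fun s => s < D.nroots → IsRankOne D W s)
    · intro i hi
      have hb := base hF W hadd i hi
      obtain ⟨η, wr⟩ := W.root i hi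
      refine ⟨fun _ => hb, fun _ => ?_⟩
      have hsw := hb.swap
      unfold IsRankOne
      rw [Cfsg.Agent.Lib.Helper18.Sub.neg_neg hF wr.simple_lt]
      exact hsw
    · intro i hi s hQ hs
      obtain ⟨η, wr⟩ := W.root i hi
      exact step hF W hneg i hi s hs (hQ (wr.refl_lt s hs))
  exact key s hs hs

/-- the homomorphism from `SL₂(F)` onto the subgroup generated by `X_r` and `X_{-r}` -/
theorem exists_hom (hF : AFacts A D) (W : WeylData D F)
    (hadd : ∀ r < D.nroots, ∀ t u : F, D.x F r t * D.x F r u = D.x F r (t + u))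
    (hneg : ∀ i < D.rank, ∀ s < D.nroots, D.reflectRoot i (D.neg s) = D.neg (D.reflectRoot i s))
    (r : ℕ) (hr : r < D.nroots) :
    ∃ φ : Matrix.SpecialLinearGroup (Fin 2) F →* GL D.Idx F,
      φ.range = D.rootSubgroup F r ⊔ D.rootSubgroup F (D.neg r) ∧
      ∀ (g : Matrix.SpecialLinearGroup (Fin 2) F) (t : F),
        ((g : Matrix (Fin 2) (Fin 2) F) = !![1, t; 0, 1] →
          ((φ g : GL D.Idx F) : Matrix D.Idx D.Idx F) = D.x F r t) ∧
        ((g : Matrix (Fin 2) (Fin 2) F) = !![1, 0; t, 1] →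
          ((φ g : GL D.Idx F) : Matrix D.Idx D.Idx F) = D.x F (D.neg r) t) := by
  obtain ⟨φ, h1, h2⟩ := Cfsg.Agent.Lib.Helper19.SL2Hom.exists_hom (all hF W hadd hneg r hr)
  have hset : ∀ q : ℕ, Set.range (fun t : F => xU D W.inv q t) =
      {g : GL D.Idx F | ∃ t : F, (g : Matrix D.Idx D.Idx F) = D.x F q t} := by
    intro q
    ext g
    constructor
    · rintro ⟨t, rfl⟩
      exact ⟨t, rfl⟩
    · rintro ⟨t, ht⟩
      exact ⟨t, Units.ext ht.symm⟩
  refine ⟨φ, ?_, ?_⟩
  · rw [h1, Subgroup.closure_union, hset, hset]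
    rfl
  · intro g t
    refine ⟨fun hg => ?_, fun hg => ?_⟩
    · rw [(h2 g t).1 hg]
      rfl
    · rw [(h2 g t).2 hg]
      rfl

end Cfsg.Agent.Lib.Helper19.SL2Chev
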