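import Cfsg.Agent.Lib.Helper19.TwPerf
import Cfsg.Agent.S1023

/-!
Perfectness of subgroups generated by words in root elements, second toolkit: classes of words in
the abelianization, torus elements `h_r(C) h_s(c)` for an orthogonal pair of roots and their action
on words, and three lemmas on families of elements indexed by a field that force the classes to be
trivial.
-/

set_option autoImplicit false
set_option linter.unusedSimpArgs false

namespace Cfsg.Agent.Lib.Helper19.TwAb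

open Cfsg Cfsg.Lie Cfsg.Agent.Lib.Helper18.Fast Cfsg.Agent.Lib.Helper18.Facts
  Cfsg.Agent.Lib.Helper18.AllRoots Cfsg.Agent.Lib.Helper18.Units Cfsg.Agent.Lib.Helper18.Sub
  Cfsg.Agent.Lib.Helper18.Grade Cfsg.Agent.Lib.Helper18.Torus
  Cfsg.Agent.Lib.Helper19.TwCore Cfsg.Agent.Lib.Helper19.TwPerf

variable {A : FData} {D : ChevalleyDatum} {F : Type*} [Field F]

/-! ### Classes of words in the abelianization -/

/-- the class of a word in the abelianization of `G1` (trivial when the word is not in `G1`) -/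
noncomputable def abv (hF : AFacts A D) (G1 : Subgroup (GL D.Idx F)) (wd : List (ℕ × F)) :
    Abelianization ↥G1 :=
  open Classical in if h : wU hF wd ∈ G1 then Abelianization.of ⟨wU hF wd, h⟩ else 1

theorem abv_of_mem (hF : AFacts A D) (G1 : Subgroup (GL D.Idx F)) {wd : List (ℕ × F)}
    (h : wU hF wd ∈ G1) : abv hF G1 wd = Abelianization.of ⟨wU hF wd, h⟩ := dif_pos h

theorem abv_append (hF : AFacts A D) (G1 : Subgroup (GL D.Idx F)) {a b : List (ℕ × F)}
    (ha : wU hF a ∈ G1) (hb : wU hF b ∈ G1) :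
    abv hF G1 (a ++ b) = abv hF G1 a * abv hF G1 b := by
  have hab : wU hF (a ++ b) ∈ G1 := by
    rw [wU_append]
    exact G1.mul_mem ha hb
  rw [abv_of_mem hF G1 hab, abv_of_mem hF G1 ha, abv_of_mem hF G1 hb, ← map_mul]
  congr 1
  apply Subtype.ext
  exact wU_append hF a b

theorem abv_congr (hF : AFacts A D) (G1 : Subgroup (GL D.Idx F)) {a b : List (ℕ × F)}
    (h : D.wordMat F a = D.wordMat F b) : abv hF G1 a = abv hF G1 b := by
  have e : wU hF a = wU hF b := wU_congr hF h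
  by_cases ha : wU hF a ∈ G1
  · have hb : wU hF b ∈ G1 := by rwa [← e]
    rw [abv_of_mem hF G1 ha, abv_of_mem hF G1 hb]
    congr 1
    exact Subtype.ext e
  · have hb : wU hF b ∉ G1 := by rwa [← e]
    unfold abv
    rw [dif_neg ha, dif_neg hb]

theorem mem_congr (hF : AFacts A D) (G1 : Subgroup (GL D.Idx F)) {a b : List (ℕ × F)}
    (h : D.wordMat F a = D.wordMat F b) (ha : wU hF a ∈ G1) : wU hF b ∈ G1 := by
  rwa [← wU_congr hF h]

/-- conjugation by an element of `G1` does not change the class -/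
theorem abv_conj_unit (hF : AFacts A D) (G1 : Subgroup (GL D.Idx F)) {g : GL D.Idx F}
    (hg : g ∈ G1) {c d : List (ℕ × F)} (hc : wU hF c ∈ G1) (h : g * wU hF c = wU hF d * g) :
    abv hF G1 d = abv hF G1 c := by
  have e : wU hF d = g * wU hF c * g⁻¹ := by
    rw [h]
    group
  have hd : wU hF d ∈ G1 := by
    rw [e]
    exact G1.mul_mem (G1.mul_mem hg hc) (G1.inv_mem hg)
  rw [abv_of_mem hF G1 hd, abv_of_mem hF G1 hc]
  have e2 : (⟨wU hF d, hd⟩ : ↥G1) = ⟨g, hg⟩ * ⟨wU hF c, hc⟩ * (⟨g, hg⟩ : ↥G1)⁻¹ :=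
    Subtype.ext e
  rw [e2, map_mul, map_mul, map_inv, mul_comm (Abelianization.of (⟨g, hg⟩ : ↥G1)),
    mul_inv_cancel_right]

theorem abv_eq_one_iff (hF : AFacts A D) (G1 : Subgroup (GL D.Idx F)) {wd : List (ℕ × F)}
    (h : wU hF wd ∈ G1) : abv hF G1 wd = 1 ↔ wU hF wd ∈ Cm G1 := by
  rw [abv_of_mem hF G1 h, ← MonoidHom.mem_ker, Abelianization.ker_of]
  constructor
  · intro h1
    exact ⟨⟨wU hF wd, h⟩, h1, rfl⟩
  · rintro ⟨x, hx, e⟩
    have e2 : x = ⟨wU hF wd, h⟩ := Subtype.ext e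
    rwa [← e2]

theorem commutator_eq_top_of_abv (hF : AFacts A D) (S : Set (List (ℕ × F)))
    (h : ∀ wd ∈ S, abv hF (D.genSubgroup F S) wd = 1) :
    commutator ↥(D.genSubgroup F S) = ⊤ :=
  commutator_eq_top hF S fun wd hwd =>
    (abv_eq_one_iff hF _ (wU_mem_gen hF S hwd)).mp (h wd hwd)

/-! ### Root elements with parameter zero -/

theorem x_zero (hF : AFacts A D)
    (hadd : ∀ r < D.nroots, ∀ t u : F, D.x F r t * D.x F r u = D.x F r (t + u)) {r : ℕ}
    (hr : r < D.nroots) : D.x F r 0 = 1 := by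
  have h := hadd r hr 0 0
  rw [add_zero] at h
  obtain ⟨u, hu⟩ := isUnit_x' hF r (0 : F)
  rw [← hu] at h ⊢
  have h2 : u * u = u := Units.ext h
  have h3 : u = 1 := by
    have := mul_left_cancel (h2.trans (mul_one u).symm)
    exact this
  rw [h3]
  rfl

theorem wordMat_zero (hF : AFacts A D)
    (hadd : ∀ r < D.nroots, ∀ t u : F, D.x F r t * D.x F r u = D.x F r (t + u))
    (w : List (ℕ × F)) (hw : ∀ p ∈ w, p.1 < D.nroots ∧ p.2 = 0) : D.wordMat F w = 1 := by
  induction w with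
  | nil => exact wordMat_nil D
  | cons p w ih =>
    rw [wordMat_cons, ih fun q hq => hw q (List.mem_cons_of_mem _ hq)]
    obtain ⟨h1, h2⟩ := hw p List.mem_cons_self
    rw [h2, x_zero hF hadd h1, mul_one]

/-! ### Rearrangements -/

theorem interleave {M : Type*} [Monoid M] (P Q : M → Prop)
    (hPQ : ∀ a b : M, P a → Q b → b * a = a * b) (l : List (M × M))
    (hP : ∀ p ∈ l, P p.1) (hQ : ∀ p ∈ l, Q p.2) :
    (l.map fun p => p.1 * p.2).prod = (l.map Prod.fst).prod * (l.map Prod.snd).prod := by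
  induction l with
  | nil => simp
  | cons a l ih =>
    simp only [List.map_cons, List.prod_cons]
    rw [ih (fun p hp => hP p (List.mem_cons_of_mem _ hp))
      (fun p hp => hQ p (List.mem_cons_of_mem _ hp))]
    have hc : Commute a.2 (l.map Prod.fst).prod := by
      apply Commute.list_prod_right
      intro x hx
      obtain ⟨p', hp', rfl⟩ := List.mem_map.mp hx
      exact hPQ _ _ (hP p' (List.mem_cons_of_mem _ hp')) (hQ a List.mem_cons_self)
    calc a.1 * a.2 * ((l.map Prod.fst).prod * (l.map Prod.snd).prod)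
        = a.1 * (a.2 * (l.map Prod.fst).prod) * (l.map Prod.snd).prod := by
          simp only [mul_assoc]
      _ = a.1 * ((l.map Prod.fst).prod * a.2) * (l.map Prod.snd).prod := by rw [hc.eq]
      _ = a.1 * (l.map Prod.fst).prod * (a.2 * (l.map Prod.snd).prod) := by
          simp only [mul_assoc]

/-- six interleaved pairs -/
theorem interleave6 {M : Type*} [Monoid M] (P Q : M → Prop)
    (hPQ : ∀ a b : M, P a → Q b → b * a = a * b) (a1 a2 a3 a4 a5 a6 b1 b2 b3 b4 b5 b6 : M)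
    (ha1 : P a1) (ha2 : P a2) (ha3 : P a3) (ha4 : P a4) (ha5 : P a5) (ha6 : P a6)
    (hb1 : Q b1) (hb2 : Q b2) (hb3 : Q b3) (hb4 : Q b4) (hb5 : Q b5) (hb6 : Q b6) :
    a1 * (b1 * (a2 * (b2 * (a3 * (b3 * (a4 * (b4 * (a5 * (b5 * (a6 * b6)))))))))) =
      a1 * (a2 * (a3 * (a4 * (a5 * a6)))) * (b1 * (b2 * (b3 * (b4 * (b5 * b6))))) := by
  have e := interleave P Q hPQ [(a1, b1), (a2, b2), (a3, b3), (a4, b4), (a5, b5), (a6, b6)]
    (by
      intro p hp
      simp only [List.mem_cons, List.not_mem_nil, or_false] at hp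
      rcases hp with rfl | rfl | rfl | rfl | rfl | rfl <;> assumption)
    (by
      intro p hp
      simp only [List.mem_cons, List.not_mem_nil, or_false] at hp
      rcases hp with rfl | rfl | rfl | rfl | rfl | rfl <;> assumption)
  simp only [List.map_cons, List.map_nil, List.prod_cons, List.prod_nil, mul_one] at e
  simp only [mul_assoc] at e ⊢
  exact e

/-- two pairs of commuting factors -/
theorem four {M : Type*} [Monoid M] (a b a' b' : M) (h : b * a' = a' * b) :
    a * b * (a' * b') = a * a' * (b * b') := by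
  calc a * b * (a' * b') = a * (b * a') * b' := by simp only [mul_assoc]
    _ = a * (a' * b) * b' := by rw [h]
    _ = a * a' * (b * b') := by simp only [mul_assoc]

theorem dec_aux {M : Type*} [Monoid M] (a b c c' d d' e f : M) (h1 : c' * d = d * c')
    (h2 : d' * e = e * d') :
    a * (b * (c * c' * (d * d' * (e * f)))) = a * (b * (c * d)) * (c' * e) * (d' * f) := by
  calc a * (b * (c * c' * (d * d' * (e * f))))
      = a * (b * (c * ((c' * d) * ((d' * e) * f)))) := by simp only [mul_assoc]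
    _ = a * (b * (c * ((d * c') * ((e * d') * f)))) := by rw [h1, h2]
    _ = a * (b * (c * d)) * (c' * e) * (d' * f) := by simp only [mul_assoc]

/-- splitting a word of six root elements into three families -/
theorem dec6 (D : ChevalleyDatum)
    (hadd : ∀ r < D.nroots, ∀ t u : F, D.x F r t * D.x F r u = D.x F r (t + u))
    (r1 r2 r3 r4 r5 r6 : ℕ) (h3 : r3 < D.nroots) (h4 : r4 < D.nroots)
    (h34 : ∀ a b : F, D.x F r3 a * D.x F r4 b = D.x F r4 b * D.x F r3 a)
    (h45 : ∀ a b : F, D.x F r4 a * D.x F r5 b = D.x F r5 b * D.x F r4 a)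
    (T t p U r V u v : F) :
    D.wordMat F [(r1, T), (r2, t), (r3, p + U), (r4, r + V), (r5, u), (r6, v)] =
      D.wordMat F ([(r1, T), (r2, t), (r3, p), (r4, r)] ++ [(r3, U), (r5, u)] ++
        [(r4, V), (r6, v)]) := by
  simp only [wordMat_cons, wordMat_nil, wordMat_append, mul_one]
  rw [← hadd r3 h3, ← hadd r4 h4]
  exact dec_aux _ _ _ _ _ _ _ _ (h34 U r) (h45 V u)

/-- splitting a word of four root elements into two families -/
theorem dec4 (D : ChevalleyDatum)
    (hadd : ∀ r < D.nroots, ∀ t u : F, D.x F r t * D.x F r u = D.x F r (t + u))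
    (r1 r2 r3 r4 : ℕ) (h3 : r3 < D.nroots) (T t p u W : F) :
    D.wordMat F [(r1, T), (r2, t), (r3, p + u), (r4, W)] =
      D.wordMat F ([(r1, T), (r2, t), (r3, p)] ++ [(r3, u), (r4, W)]) := by
  simp only [wordMat_cons, wordMat_nil, wordMat_append, mul_one]
  rw [← hadd r3 h3]
  simp only [mul_assoc]

/-- additivity of a family of two commuting root elements -/
theorem pair_add (D : ChevalleyDatum)
    (hadd : ∀ r < D.nroots, ∀ t u : F, D.x F r t * D.x F r u = D.x F r (t + u))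
    (r s : ℕ) (hr : r < D.nroots) (hs : s < D.nroots)
    (hrs : ∀ a b : F, D.x F s a * D.x F r b = D.x F r b * D.x F s a) (U u U' u' : F) :
    D.wordMat F ([(r, U), (s, u)] ++ [(r, U'), (s, u')]) =
      D.wordMat F [(r, U + U'), (s, u + u')] := by
  simp only [wordMat_cons, wordMat_nil, wordMat_append, mul_one]
  rw [four _ _ _ _ (hrs u U'), hadd r hr, hadd s hs]

/-! ### Torus elements of an orthogonal pair of roots -/

/-- the word of `n_r(C) n_s(c)` as a product of three pair words -/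
def pairN (r s nr ns : ℕ) (C c : F) : List (ℕ × F) :=
  [(r, C), (s, c)] ++ [(nr, -C⁻¹), (ns, -c⁻¹)] ++ [(r, C), (s, c)]

theorem pair_torus (D : ChevalleyDatum) (r s nr ns : ℕ) (hnr : D.neg r = nr) (hns : D.neg s = ns)
    (h1 : ∀ a b : F, D.x F s a * D.x F r b = D.x F r b * D.x F s a)
    (h2 : ∀ a b : F, D.x F s a * D.x F nr b = D.x F nr b * D.x F s a)
    (h3 : ∀ a b : F, D.x F ns a * D.x F r b = D.x F r b * D.x F ns a)
    (h4 : ∀ a b : F, D.x F ns a * D.x F nr b = D.x F nr b * D.x F ns a) (C c : F) :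
    D.wordMat F (pairN r s nr ns C c ++ pairN r s nr ns (-1) (-1)) =
      D.hMat F r C * D.hMat F s c := by
  have hPQ : ∀ a b : Matrix D.Idx D.Idx F,
      (∃ t : F, a = D.x F r t ∨ a = D.x F nr t) → (∃ t : F, b = D.x F s t ∨ b = D.x F ns t) →
      b * a = a * b := by
    rintro a b ⟨t, rfl | rfl⟩ ⟨u, rfl | rfl⟩
    · exact h1 u t
    · exact h3 u t
    · exact h2 u t
    · exact h4 u t
  have e := interleave6 _ _ hPQ (D.x F r C) (D.x F nr (-C⁻¹)) (D.x F r C) (D.x F r (-1))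
    (D.x F nr (-(-1 : F)⁻¹)) (D.x F r (-1)) (D.x F s c) (D.x F ns (-c⁻¹)) (D.x F s c)
    (D.x F s (-1)) (D.x F ns (-(-1 : F)⁻¹)) (D.x F s (-1))
    ⟨_, Or.inl rfl⟩ ⟨_, Or.inr rfl⟩ ⟨_, Or.inl rfl⟩ ⟨_, Or.inl rfl⟩ ⟨_, Or.inr rfl⟩ ⟨_, Or.inl rfl⟩
    ⟨_, Or.inl rfl⟩ ⟨_, Or.inr rfl⟩ ⟨_, Or.inl rfl⟩ ⟨_, Or.inl rfl⟩ ⟨_, Or.inr rfl⟩ ⟨_, Or.inl rfl⟩
  simp only [pairN, ChevalleyDatum.hMat, ChevalleyDatum.hWord, ChevalleyDatum.nWord, hnr, hns,
    wordMat_append, wordMat_cons, wordMat_nil, mul_one]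
  simp only [mul_assoc] at e ⊢
  exact e

theorem chi_h (r : ℕ) {t : F} (ht : t ≠ 0) (b : ℕ) :
    chi A (fun i => t ^ A.cor r i) b = t ^ pairE A r b := by
  unfold chi chiN pairE
  rw [zpow_sum_aux ht]
  apply Finset.prod_congr rfl
  intro i _
  rw [zpow_mul]

theorem tor_mul_word (hF : AFacts A D) {c : ℕ → F} (hc : ∀ i, c i ≠ 0) (w : List (ℕ × F))
    (hw : ∀ p ∈ w, p.1 < D.nroots) :
    tor D A c * D.wordMat F w =
      D.wordMat F (w.map fun p => (p.1, chi A c p.1 * p.2)) * tor D A c := by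
  induction w with
  | nil => simp [wordMat_nil]
  | cons p w ih =>
    rw [wordMat_cons, ← mul_assoc, tor_mul_x hF (hw p List.mem_cons_self) hc, mul_assoc,
      ih fun q hq => hw q (List.mem_cons_of_mem _ hq), ← mul_assoc, List.map_cons, wordMat_cons]

/-- the action of `h_r(C) h_s(c)` on a word -/
theorem hh_mul_word (hF : AFacts A D) {r s : ℕ} (hr : r < D.nroots) (hs : s < D.nroots)
    {C c : F} (hC : C ≠ 0) (hc : c ≠ 0) (w : List (ℕ × F)) (hw : ∀ p ∈ w, p.1 < D.nroots) :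
    D.hMat F r C * D.hMat F s c * D.wordMat F w =
      D.wordMat F (w.map fun p => (p.1, C ^ pairE A r p.1 * (c ^ pairE A s p.1 * p.2))) *
        (D.hMat F r C * D.hMat F s c) := by
  rw [hMat_eq_tor hF hr hC, hMat_eq_tor hF hs hc, mul_assoc,
    tor_mul_word hF (fun i => zpow_ne_zero _ hc) w hw, ← mul_assoc,
    tor_mul_word hF (fun i => zpow_ne_zero _ hC) _ (by
      intro p hp
      obtain ⟨q, hq, rfl⟩ := List.mem_map.mp hp
      exact hw q hq), mul_assoc, List.map_map]
  congr 2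
  apply List.map_congr_left
  intro p _
  simp only [Function.comp_apply, chi_h r hC, chi_h s hc]

/-- the torus element as a unit, its membership and its action on the units of words -/
theorem hh_conj (hF : AFacts A D) (G1 : Subgroup (GL D.Idx F)) {r s nr ns : ℕ}
    (hr : r < D.nroots) (hs : s < D.nroots) {C c : F} (hC : C ≠ 0) (hc : c ≠ 0)
    (hmat : D.wordMat F (pairN r s nr ns C c ++ pairN r s nr ns (-1) (-1)) =
      D.hMat F r C * D.hMat F s c)
    (hmem : wU hF (pairN r s nr ns C c ++ pairN r s nr ns (-1) (-1)) ∈ G1)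
    {w : List (ℕ × F)} (hw : ∀ p ∈ w, p.1 < D.nroots) (hwm : wU hF w ∈ G1) :
    abv hF G1 (w.map fun p => (p.1, C ^ pairE A r p.1 * (c ^ pairE A s p.1 * p.2))) =
      abv hF G1 w := by
  apply abv_conj_unit hF G1 hmem hwm
  apply Units.ext
  rw [Units.val_mul, Units.val_mul, coe_wU, coe_wU, coe_wU, hmat]
  exact hh_mul_word hF hr hs hC hc w hw

/-! ### Families -/

/-- an additive family scaled by some `κ ≠ 1` is trivial -/
theorem family_add {K : Type*} [Field K] {Q : Type*} [CommGroup Q] (φ : K → Q)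
    (hadd : ∀ u u' : K, φ (u + u') = φ u * φ u') (κ : K) (hκ : κ ≠ 1)
    (hs : ∀ u : K, φ (κ * u) = φ u) (u : K) : φ u = 1 := by
  have h0 : φ 0 = 1 := by
    have h := hadd 0 0
    rw [add_zero] at h
    exact mul_left_cancel (h.symm.trans (mul_one _).symm)
  have hneg : ∀ x : K, φ (-x) = (φ x)⁻¹ := by
    intro x
    have h := hadd x (-x)
    rw [add_neg_cancel, h0] at h
    exact eq_inv_of_mul_eq_one_right h.symm
  have h1 : ∀ x : K, φ ((κ - 1) * x) = 1 := by
    intro x
    have e : (κ - 1) * x = κ * x + -x := by ring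
    rw [e, hadd, hs, hneg, mul_inv_cancel]
  have hk : κ - 1 ≠ 0 := sub_ne_zero.mpr hκ
  have := h1 (u / (κ - 1))
  rwa [mul_div_cancel₀ _ hk] at this

/-- a family invariant under all non-zero scalings with `φ 1 φ s = φ (1 + s)` is trivial -/
theorem family_all {K : Type*} [Field K] {Q : Type*} [CommGroup Q] (φ : K → Q)
    (hc : ∀ κ t : K, κ ≠ 0 → φ (κ * t) = φ t) (hb : ∀ s : K, φ 1 * φ s = φ (1 + s))
    (s₀ : K) (h0 : s₀ ≠ 0) (h1 : 1 + s₀ ≠ 0) (t : K) : φ t = 1 := by
  have e1 : φ s₀ = φ 1 := by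
    have := hc s₀ 1 h0
    rwa [mul_one] at this
  have e2 : φ (1 + s₀) = φ 1 := by
    have := hc (1 + s₀) 1 h1
    rwa [mul_one] at this
  have h := hb s₀
  rw [e1, e2] at h
  have h3 : φ 1 = 1 := mul_left_cancel (h.trans (mul_one _).symm)
  by_cases ht : t = 0
  · have h := hb 0
    rw [add_zero, h3, one_mul] at h
    rw [ht, h]
  · have := hc t 1 ht
    rw [mul_one] at this
    rw [this, h3]

/-- a family in characteristic `3` invariant under scaling by squares with `φ 1 φ s = φ (1 + s)`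
is trivial -/
theorem family_sq {K : Type*} [Field K] (h3 : (3 : K) = 0) {Q : Type*} [CommGroup Q] (φ : K → Q)
    (hc : ∀ d t : K, d ≠ 0 → φ (d ^ 2 * t) = φ t) (hb : ∀ s : K, φ 1 * φ s = φ (1 + s))
    (μ : K) (hμ : μ ≠ 0) (hμ4 : μ ^ 4 ≠ 1) (t : K) : φ t = 1 := by
  have hμ2 : μ ^ 2 ≠ 1 := by
    intro h
    apply hμ4
    have e : μ ^ 4 = (μ ^ 2) ^ 2 := by ring
    rw [e, h, one_pow]
  have hμ2' : μ ^ 2 ≠ -1 := by
    intro h
    apply hμ4
    have e : μ ^ 4 = (μ ^ 2) ^ 2 := by ring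
    rw [e, h]
    ring
  have hd : μ - μ⁻¹ ≠ 0 := by
    intro h
    apply hμ2
    field_simp at h
    linear_combination h
  have he : μ + μ⁻¹ ≠ 0 := by
    intro h
    apply hμ2'
    field_simp at h
    linear_combination h
  have hde : 1 + (μ - μ⁻¹) ^ 2 = (μ + μ⁻¹) ^ 2 := by
    have e : μ * μ⁻¹ = 1 := mul_inv_cancel₀ hμ
    linear_combination (-4 : K) * e - h3
  have e1 : φ ((μ - μ⁻¹) ^ 2) = φ 1 := by
    have := hc (μ - μ⁻¹) 1 hd
    rwa [mul_one] at this
  have e2 : φ ((μ + μ⁻¹) ^ 2) = φ 1 := by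
    have := hc (μ + μ⁻¹) 1 he
    rwa [mul_one] at this
  have h := hb ((μ - μ⁻¹) ^ 2)
  rw [hde, e1, e2] at h
  have h1 : φ 1 = 1 := mul_left_cancel (h.trans (mul_one _).symm)
  have hshift : ∀ s : K, φ (1 + s) = φ s := by
    intro s
    rw [← hb s, h1, one_mul]
  have hsq : ∀ (s e : K), e ≠ 0 → φ (s + e ^ 2) = φ s := by
    intro s e he
    have e3 : s + e ^ 2 = e ^ 2 * (1 + (e⁻¹) ^ 2 * s) := by
      field_simp
      ring
    rw [e3, hc e _ he, hshift, hc _ _ (inv_ne_zero he)]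
  have hsq' : ∀ (s e : K), φ (s + e ^ 2) = φ s := by
    intro s e
    by_cases he : e = 0
    · rw [he]
      ring_nf
    · exact hsq s e he
  have h0 : φ 0 = 1 := by
    have := hshift 0
    rw [add_zero, h1] at this
    exact this.symm
  have e4 : t = (0 + (t + 1) ^ 2) - (t - 1) ^ 2 := by
    linear_combination (-t) * h3
  have e5 : φ t = φ ((0 + (t + 1) ^ 2)) := by
    have := hsq' t (t - 1)
    rw [← this]
    congr 1
    linear_combination (-t) * h3
  rw [e5, hsq', h0]

/-- a polynomial `X - X ^ n` with `1 < n < card K` has a non-root -/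
theorem exists_sub_pow_ne {K : Type*} [Field K] [Fintype K] (n : ℕ) (h1 : 1 < n)
    (h2 : n < Fintype.card K) : ∃ t : K, t - t ^ n ≠ 0 := by
  have hP : (Polynomial.X - Polynomial.X ^ n : Polynomial K) ≠ 0 := by
    intro h
    have h1' := congrArg (fun P : Polynomial K => P.coeff 1) h
    have hq1 : ¬ (1 = n) := by omega
    simp only [Polynomial.coeff_sub, Polynomial.coeff_X_one, Polynomial.coeff_X_pow, hq1,
      if_false, sub_zero, Polynomial.coeff_zero] at h1'
    exact one_ne_zero h1'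
  have hdeg : (Polynomial.X - Polynomial.X ^ n : Polynomial K).natDegree < Fintype.card K := by
    have h3 : (Polynomial.X - Polynomial.X ^ n : Polynomial K).natDegree ≤ n := by
      apply (Polynomial.natDegree_sub_le _ _).trans
      rw [Polynomial.natDegree_X, Polynomial.natDegree_X_pow]
      omega
    omega
  obtain ⟨t, ht⟩ := exists_eval_ne_zero _ hP hdeg
  exact ⟨t, by simpa using ht⟩

/-- `t ≠ 0` and `t ^ n ≠ 1` for some `t`, when `n + 1 < card K` -/
theorem exists_pow_ne_one {K : Type*} [Field K] [Fintype K] (n : ℕ) (h1 : 0 < n)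
    (h2 : n + 1 < Fintype.card K) : ∃ t : K, t ≠ 0 ∧ t ^ n ≠ 1 := by
  obtain ⟨t, ht⟩ := exists_sub_pow_ne (K := K) (n + 1) (by omega) h2
  refine ⟨t, ?_, ?_⟩
  · rintro rfl
    apply ht
    simp
  · intro h
    apply ht
    rw [pow_succ, h, one_mul, sub_self]

/-- the `p ^ m`-th power map is additive when the `p`-th power map is -/
theorem frob_pow_add {K : Type*} [CommSemiring K] {p : ℕ}
    (h : ∀ x y : K, (x + y) ^ p = x ^ p + y ^ p) (m : ℕ) :
    ∀ x y : K, (x + y) ^ (p ^ m) = x ^ (p ^ m) + y ^ (p ^ m) := by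
  induction m with
  | zero =>
    intro x y
    simp
  | succ m ih =>
    intro x y
    rw [pow_succ, pow_mul, pow_mul, pow_mul, ih, h]

theorem list2_ext {α : Type*} (r1 r2 : ℕ) (x1 x2 y1 y2 : α) (h1 : x1 = y1) (h2 : x2 = y2) :
    [(r1, x1), (r2, x2)] = [(r1, y1), (r2, y2)] := by
  rw [h1, h2]

theorem list3_ext {α : Type*} (r1 r2 r3 : ℕ) (x1 x2 x3 y1 y2 y3 : α) (h1 : x1 = y1) (h2 : x2 = y2)
    (h3 : x3 = y3) : [(r1, x1), (r2, x2), (r3, x3)] = [(r1, y1), (r2, y2), (r3, y3)] := by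
  rw [h1, h2, h3]

theorem list4_ext {α : Type*} (r1 r2 r3 r4 : ℕ) (x1 x2 x3 x4 y1 y2 y3 y4 : α) (h1 : x1 = y1)
    (h2 : x2 = y2) (h3 : x3 = y3) (h4 : x4 = y4) :
    [(r1, x1), (r2, x2), (r3, x3), (r4, x4)] = [(r1, y1), (r2, y2), (r3, y3), (r4, y4)] := by
  rw [h1, h2, h3, h4]

end Cfsg.Agent.Lib.Helper19.TwAb
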