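import Mathlib

set_option autoImplicit false
set_option linter.unusedSectionVars false

/-!
Square matrices whose index set is cut in two halves by a Boolean function `c` and an involution `T`
exchanging the halves: matrices stabilising the span of the basis vectors of the first half, the
diagonal block on the first half, and the relation "the second diagonal block of `g` is the first
diagonal block of `g'`, transported by `T`".
-/

namespace Cfsg.Agent.Lib.Helper19.BlockRel

open Matrix

variable {ι : Type*} [Fintype ι] [DecidableEq ι] {K : Type*} [Field K]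
variable (c : ι → Bool) (T : ι → ι)

/-- the span of the basis vectors `i` with `c i = true` is stable under `g` -/
def Inv (g : Matrix ι ι K) : Prop := ∀ i j, c i = false → c j = true → g i j = 0

/-- `g` and `g'` are stable and the second diagonal block of `g` is the first one of `g'` -/
def Rel (g g' : Matrix ι ι K) : Prop :=
  Inv c g ∧ Inv c g' ∧ ∀ i j, c i = true → c j = true → g (T i) (T j) = g' i j

variable {c T}

theorem sum_split (hT : ∀ i, T (T i) = i) (hc : ∀ i, c (T i) = !c i) (f : ι → K) :
    ∑ k, f k = ∑ k ∈ Finset.univ.filter (fun k => c k = true), f k +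
      ∑ k ∈ Finset.univ.filter (fun k => c k = true), f (T k) := by
  rw [← Finset.sum_filter_add_sum_filter_not Finset.univ (fun k => c k = true) f]
  congr 1
  refine Finset.sum_nbij' T T ?_ ?_ ?_ ?_ ?_
  · intro a ha
    simp only [Finset.mem_filter, Finset.mem_univ, true_and] at ha ⊢
    rw [hc a]
    cases h : c a <;> simp_all
  · intro a ha
    simp only [Finset.mem_filter, Finset.mem_univ, true_and] at ha ⊢
    rw [hc a]
    cases h : c a <;> simp_all
  · intro a _
    exact hT a
  · intro a _
    exact hT a
  · intro a _
    rw [hT a]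

theorem sum_eq_of_inv_right (f g : ι → K) (h : ∀ k, c k = false → g k = 0) :
    ∑ k, f k * g k = ∑ k ∈ Finset.univ.filter (fun k => c k = true), f k * g k := by
  rw [← Finset.sum_filter_add_sum_filter_not Finset.univ (fun k => c k = true)]
  have : ∑ k ∈ Finset.univ.filter (fun k => ¬ c k = true), f k * g k = 0 := by
    apply Finset.sum_eq_zero
    intro k hk
    simp only [Finset.mem_filter, Finset.mem_univ, true_and, Bool.not_eq_true] at hk
    rw [h k hk, mul_zero]
  rw [this, add_zero]

theorem inv_one : Inv c (1 : Matrix ι ι K) := by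
  intro i j hi hj
  have : i ≠ j := by
    rintro rfl
    rw [hi] at hj
    exact Bool.false_ne_true hj
  exact Matrix.one_apply_ne this

theorem inv_mul {g h : Matrix ι ι K} (hg : Inv c g) (hh : Inv c h) : Inv c (g * h) := by
  intro i j hi hj
  rw [Matrix.mul_apply]
  apply Finset.sum_eq_zero
  intro k _
  cases hk : c k
  · rw [hh k j hk hj, mul_zero]
  · rw [hg i k hi hk, zero_mul]

theorem rel_one (hT : ∀ i, T (T i) = i) : Rel c T (1 : Matrix ι ι K) 1 := by
  refine ⟨inv_one, inv_one, ?_⟩
  intro i j _ _
  have hinj : Function.Injective T := fun a b hab => by rw [← hT a, ← hT b, hab]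
  by_cases hij : i = j
  · subst hij
    rw [Matrix.one_apply_eq, Matrix.one_apply_eq]
  · rw [Matrix.one_apply_ne hij, Matrix.one_apply_ne (fun h => hij (hinj h))]

theorem rel_mul (hT : ∀ i, T (T i) = i) (hc : ∀ i, c (T i) = !c i) {g g' h h' : Matrix ι ι K}
    (hg : Rel c T g g') (hh : Rel c T h h') : Rel c T (g * h) (g' * h') := by
  refine ⟨inv_mul hg.1 hh.1, inv_mul hg.2.1 hh.2.1, ?_⟩
  intro i j hi hj
  rw [Matrix.mul_apply, Matrix.mul_apply]
  have hTi : c (T i) = false := by rw [hc i, hi]; rfl
  rw [sum_split hT hc (fun k => g (T i) k * h k (T j))]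
  have h1 : ∑ k ∈ Finset.univ.filter (fun k => c k = true), g (T i) k * h k (T j) = 0 := by
    apply Finset.sum_eq_zero
    intro k hk
    simp only [Finset.mem_filter, Finset.mem_univ, true_and] at hk
    rw [hg.1 (T i) k hTi hk, zero_mul]
  rw [h1, zero_add, sum_eq_of_inv_right (c := c) (fun k => g' i k) (fun k => h' k j)
    (fun k hk => hh.2.1 k j hk hj)]
  apply Finset.sum_congr rfl
  intro k hk
  simp only [Finset.mem_filter, Finset.mem_univ, true_and] at hk
  rw [hg.2.2 i k hi hk, hh.2.2 k j hk hj]

/-- the diagonal block on the first half -/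
def blk (c : ι → Bool) (g : Matrix ι ι K) : Matrix {i // c i = true} {i // c i = true} K :=
  g.submatrix Subtype.val Subtype.val

theorem blk_one : blk c (1 : Matrix ι ι K) = 1 := by
  ext i j
  simp only [blk, Matrix.submatrix_apply, Matrix.one_apply, Subtype.ext_iff]

theorem blk_mul {g h : Matrix ι ι K} (hh : Inv c h) : blk c (g * h) = blk c g * blk c h := by
  ext i j
  simp only [blk, Matrix.submatrix_apply, Matrix.mul_apply]
  rw [sum_eq_of_inv_right (c := c) (fun k => g i.1 k) (fun k => h k j.1)
    (fun k hk => hh k j.1 hk j.2)]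
  exact Finset.sum_subtype (Finset.univ.filter (fun k => c k = true))
    (fun x => by simp) (fun k => g i.1 k * h k j.1)

theorem blk_eq_one_of_rel (hT : ∀ i, T (T i) = i) {g' : Matrix ι ι K}
    (h : Rel c T (1 : Matrix ι ι K) g') : blk c g' = 1 := by
  ext i j
  simp only [blk, Matrix.submatrix_apply]
  rw [← h.2.2 i.1 j.1 i.2 j.2]
  have hinj : Function.Injective T := fun a b hab => by rw [← hT a, ← hT b, hab]
  by_cases hij : i = j
  · subst hij
    rw [Matrix.one_apply_eq, Matrix.one_apply_eq]
  · rw [Matrix.one_apply_ne hij,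
      Matrix.one_apply_ne (fun h => hij (Subtype.ext (hinj h)))]

end Cfsg.Agent.Lib.Helper19.BlockRel
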