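import Cfsg.Agent.Lib.Helper19.CoxLower
import Cfsg.Prelude.Def_ChevStructure
import Mathlib

set_option autoImplicit false
set_option maxRecDepth 100000
set_option maxHeartbeats 4000000

/-!
Certificates for the Coxeter group of type D4: coset tables with rewriting steps (upper
bound for the order), a faithful permutation representation with a chain of transversals
(lower bound), and the resulting order, Coxeter number and centre.  Generated data.
-/

namespace Cfsg.Agent.Lib.Helper19.CoxDataD4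

open Cfsg.Agent.Lib.Helper19.CoxUpper Cfsg.Agent.Lib.Helper19.CoxLower

def mc : ℕ := 1311146941007209009

theorem hmc : mcCheck (Cfsg.Lie.coxeterD4) mc = true := by
  decide +kernel

def D0 : List (List ℕ) :=
  [[],
   [0]]

def T0 : List (List (ℕ × ℕ × ℕ)) :=
  [[(0, 1, 1)],
   [(0, 0, 64)]]

theorem lvl0 : LevelOK 4 mc 0 D0 T0 :=
  levelOK_of_check _ _ _ _ _ (by decide +kernel)

def D1 : List (List ℕ) :=
  [[],
   [1],
   [1, 0]]

def T1 : List (List (ℕ × ℕ × ℕ)) :=
  [[(1, 0, 1), (0, 1, 1)],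
   [(0, 2, 1), (0, 0, 64)],
   [(0, 1, 65), (1, 2, 64)]]

theorem lvl1 : LevelOK 4 mc 1 D1 T1 :=
  levelOK_of_check _ _ _ _ _ (by decide +kernel)

def D2 : List (List ℕ) :=
  [[],
   [2],
   [2, 1],
   [2, 1, 0]]

def T2 : List (List (ℕ × ℕ × ℕ)) :=
  [[(1, 0, 1), (2, 0, 1), (0, 1, 1)],
   [(1, 1, 64), (0, 2, 1), (0, 0, 64)],
   [(0, 3, 1), (0, 1, 65), (2, 2, 64)],
   [(0, 2, 66), (1, 3, 4160), (2, 3, 4224)]]

theorem lvl2 : LevelOK 4 mc 2 D2 T2 :=
  levelOK_of_check _ _ _ _ _ (by decide +kernel)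

def D3 : List (List ℕ) :=
  [[],
   [3],
   [3, 1],
   [3, 1, 0],
   [3, 1, 2],
   [3, 1, 0, 2],
   [3, 1, 0, 2, 1],
   [3, 1, 0, 2, 1, 3]]

def T3 : List (List (ℕ × ℕ × ℕ)) :=
  [[(1, 0, 1), (2, 0, 1), (3, 0, 1), (0, 1, 1)],
   [(1, 1, 64), (0, 2, 1), (3, 1, 64), (0, 0, 64)],
   [(0, 3, 1), (0, 1, 65), (0, 4, 1), (2, 2, 64)],
   [(0, 2, 66), (1, 3, 4160), (0, 5, 1), (2, 3, 4224)],
   [(0, 5, 66), (3, 4, 4160), (0, 2, 66), (2, 4, 4224)],
   [(0, 4, 4227), (0, 6, 1), (0, 3, 67), (2, 5, 274560)],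
   [(3, 6, 1108086976), (0, 5, 68), (1, 6, 274496), (0, 7, 1)],
   [(3, 7, 74122531008), (2, 7, 17838208), (1, 7, 18100288), (0, 6, 69)]]

theorem lvl3 : LevelOK 4 mc 3 D3 T3 :=
  levelOK_of_check _ _ _ _ _ (by decide +kernel)

def Ds : List (List (List ℕ)) := [D0, D1, D2, D3]

def Ts : List (List (List (ℕ × ℕ × ℕ))) := [T0, T1, T2, T3]

theorem allok : AllOK 4 mc Ds Ts := by
  intro k hk
  interval_cases k
  · exact lvl0
  · exact lvl1
  · exact lvl2
  · exact lvl3

theorem hbound : bound Ds 4 = 192 := by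
  decide +kernel

def R : ℕ := 8

def tc : List ℕ :=
  [434321403853012993,
   505817147449082368,
   506096427680858368,
   506095315334725888]

def U : List (List ℕ) :=
  [[], [0], [1, 0], [2, 1, 0], [3, 1, 0], [3, 2, 1, 0], [1, 3, 2, 1, 0], [0, 1, 3, 2, 1, 0]]

def lv : List (ℕ × List (List ℕ)) :=
  (0, U) :: [(1, [[], [1], [2, 1], [3, 1], [3, 2, 1], [1, 3, 2, 1]]),
   (2, [[], [2], [3], [3, 2]])]

def V : List (List ℕ) := [[1], [2], [3]]

theorem hperm : permCheck 4 mc R tc = true := by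
  decide +kernel

theorem hchain : chainCheck 4 R tc lv = true := by
  decide +kernel

theorem hsize : chainSize lv = 192 := by
  decide +kernel

theorem hrep : Rep (Cfsg.Lie.coxeterD4) R tc :=
  rep_of_check _ mc (mcCheck_sound _ _ hmc) R tc hperm

theorem card_inj : Nat.card (Cfsg.Lie.coxeterD4).Group = 192 ∧ Function.Injective (rho (Cfsg.Lie.coxeterD4) R tc hrep) :=
  main _ mc hmc Ds Ts allok R tc hperm lv hchain _ hbound hsize

/-- The order of the Coxeter group of type D4. -/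
theorem card : Nat.card (Cfsg.Lie.coxeterD4).Group = 192 := card_inj.1

theorem horder : orderCheck 4 R tc 6 = true := by
  decide +kernel

/-- The order of the Coxeter element of the Coxeter group of type D4. -/
theorem order : orderOf ((List.finRange 4).map (Cfsg.Lie.coxeterD4).simple).prod = 6 :=
  orderOf_cox _ R tc hrep card_inj.2 6 horder

theorem hcenter : centerCheck 4 R tc 0 7 U V 3 = true := by
  decide +kernel

/-- The centre of the Coxeter group of type D4. -/
theorem center : Nat.card (Subgroup.center (Cfsg.Lie.coxeterD4).Group) = 2 ∧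
    Subgroup.center (Cfsg.Lie.coxeterD4).Group ≤ Subgroup.zpowers ((List.finRange 4).map (Cfsg.Lie.coxeterD4).simple).prod :=
  center_two _ R tc hrep card_inj.2 0 7 U V 3 hcenter (by decide)

end Cfsg.Agent.Lib.Helper19.CoxDataD4
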