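import Cfsg.Agent.Lib.Helper19.CoxLower
import Mathlib

set_option autoImplicit false
set_option maxRecDepth 100000
set_option maxHeartbeats 4000000

/-!
Certificates for the Coxeter group of type E6: coset tables with rewriting steps (upper
bound for the order), a faithful permutation representation with a chain of transversals
(lower bound), and the resulting order, Coxeter number and centre.  Generated data.
-/

namespace Cfsg.Agent.Lib.Helper19.CoxDataE6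

open Cfsg.Agent.Lib.Helper19.CoxUpper Cfsg.Agent.Lib.Helper19.CoxLower

def mc : ℕ := 1666748482369984442279593237219391985296161

theorem hmc : mcCheck (CoxeterMatrix.E₆) mc = true := by
  decide +kernel

def D0 : List (List ℕ) :=
  [[],
   [0]]

def T0 : List (List (ℕ × ℕ × ℕ)) :=
  [[(0, 1, 1)],
   [(0, 0, 64)]]

theorem lvl0 : LevelOK 6 mc 0 D0 T0 :=
  levelOK_of_check _ _ _ _ _ (by decide +kernel)

def D1 : List (List ℕ) :=
  [[],
   [1]]

def T1 : List (List (ℕ × ℕ × ℕ)) :=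
  [[(1, 0, 1), (0, 1, 1)],
   [(1, 1, 64), (0, 0, 64)]]

theorem lvl1 : LevelOK 6 mc 1 D1 T1 :=
  levelOK_of_check _ _ _ _ _ (by decide +kernel)

def D2 : List (List ℕ) :=
  [[],
   [2],
   [2, 0]]

def T2 : List (List (ℕ × ℕ × ℕ)) :=
  [[(1, 0, 1), (2, 0, 1), (0, 1, 1)],
   [(0, 2, 1), (2, 1, 64), (0, 0, 64)],
   [(0, 1, 65), (2, 2, 4160), (1, 2, 64)]]

theorem lvl2 : LevelOK 6 mc 2 D2 T2 :=
  levelOK_of_check _ _ _ _ _ (by decide +kernel)

def D3 : List (List ℕ) :=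
  [[],
   [3],
   [3, 1],
   [3, 2],
   [3, 1, 2],
   [3, 2, 0],
   [3, 1, 2, 0],
   [3, 1, 2, 3],
   [3, 1, 2, 0, 3],
   [3, 1, 2, 0, 3, 2]]

def T3 : List (List (ℕ × ℕ × ℕ)) :=
  [[(1, 0, 1), (2, 0, 1), (3, 0, 1), (0, 1, 1)],
   [(1, 1, 64), (0, 2, 1), (0, 3, 1), (0, 0, 64)],
   [(1, 2, 4160), (0, 1, 65), (0, 4, 1), (2, 2, 64)],
   [(0, 5, 1), (0, 4, 65), (0, 1, 65), (3, 3, 64)],
   [(0, 6, 1), (0, 3, 4162), (0, 2, 66), (0, 7, 1)],
   [(0, 3, 66), (0, 6, 4225), (1, 5, 4160), (3, 5, 4224)],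
   [(0, 4, 67), (0, 5, 266371), (1, 6, 270400), (0, 8, 1)],
   [(0, 8, 67), (3, 7, 17047554), (2, 7, 4224), (0, 4, 67)],
   [(0, 7, 4292), (3, 8, 4468964339714), (0, 9, 1), (0, 6, 68)],
   [(2, 9, 1125130496), (3, 9, 303536127094786), (0, 8, 69), (1, 9, 17834048)]]

theorem lvl3 : LevelOK 6 mc 3 D3 T3 :=
  levelOK_of_check _ _ _ _ _ (by decide +kernel)

def D4 : List (List ℕ) :=
  [[],
   [4],
   [4, 3],
   [4, 3, 1],
   [4, 3, 2],
   [4, 3, 1, 2],
   [4, 3, 2, 0],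
   [4, 3, 1, 2, 0],
   [4, 3, 1, 2, 3],
   [4, 3, 1, 2, 0, 3],
   [4, 3, 1, 2, 3, 4],
   [4, 3, 1, 2, 0, 3, 2],
   [4, 3, 1, 2, 0, 3, 4],
   [4, 3, 1, 2, 0, 3, 2, 4],
   [4, 3, 1, 2, 0, 3, 2, 4, 3],
   [4, 3, 1, 2, 0, 3, 2, 4, 3, 1]]

def T4 : List (List (ℕ × ℕ × ℕ)) :=
  [[(1, 0, 1), (2, 0, 1), (3, 0, 1), (4, 0, 1), (0, 1, 1)],
   [(1, 1, 64), (2, 1, 64), (3, 1, 64), (0, 2, 1), (0, 0, 64)],
   [(1, 2, 4160), (0, 3, 1), (0, 4, 1), (0, 1, 65), (4, 2, 64)],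
   [(1, 3, 270400), (0, 2, 66), (0, 5, 1), (2, 3, 4160), (4, 3, 4224)],
   [(0, 6, 1), (0, 5, 66), (0, 2, 66), (3, 4, 4160), (4, 4, 4224)],
   [(0, 7, 1), (0, 4, 4227), (0, 3, 67), (0, 8, 1), (4, 5, 274560)],
   [(0, 4, 67), (0, 7, 4290), (1, 6, 270400), (3, 6, 274496), (4, 6, 274560)],
   [(0, 5, 68), (0, 6, 270532), (1, 7, 17571904), (0, 9, 1), (4, 7, 17838208)],
   [(0, 9, 68), (3, 8, 1108086976), (2, 8, 274496), (0, 5, 68), (0, 10, 1)],
   [(0, 8, 4357), (3, 9, 290481574514880), (0, 11, 1), (0, 7, 69), (0, 12, 1)],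
   [(0, 12, 4420), (3, 10, 74122531008), (2, 10, 18100288), (4, 10, 17838208), (0, 8, 69)],
   [(2, 11, 73099137088), (3, 11, 19712254967550144), (0, 9, 70), (1, 11, 1158422592), (0, 13, 1)],
   [(0, 10, 278854), (3, 12, 19712254967550144), (0, 13, 70), (4, 12, 1158688896), (0, 9, 70)],
   [(2, 13, 4883462508608), (3, 13, 1280720150631289024), (0, 12, 4487), (0, 14, 1), (0, 11, 71)],
   [(2, 14, 317144764796992), (0, 15, 1), (4, 14, 308349779325056), (0, 13, 72), (1, 14, 76320350272)],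
   [(2, 15, 20583343087964224), (0, 14, 73), (4, 15, 20574548102492288), (3, 15, 83138146977717424320), (1, 15, 5024122675264)]]

theorem lvl4 : LevelOK 6 mc 4 D4 T4 :=
  levelOK_of_check _ _ _ _ _ (by decide +kernel)

def D5 : List (List ℕ) :=
  [[],
   [5],
   [5, 4],
   [5, 4, 3],
   [5, 4, 3, 1],
   [5, 4, 3, 2],
   [5, 4, 3, 1, 2],
   [5, 4, 3, 2, 0],
   [5, 4, 3, 1, 2, 0],
   [5, 4, 3, 1, 2, 3],
   [5, 4, 3, 1, 2, 0, 3],
   [5, 4, 3, 1, 2, 3, 4],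
   [5, 4, 3, 1, 2, 0, 3, 2],
   [5, 4, 3, 1, 2, 0, 3, 4],
   [5, 4, 3, 1, 2, 3, 4, 5],
   [5, 4, 3, 1, 2, 0, 3, 2, 4],
   [5, 4, 3, 1, 2, 0, 3, 4, 5],
   [5, 4, 3, 1, 2, 0, 3, 2, 4, 3],
   [5, 4, 3, 1, 2, 0, 3, 2, 4, 5],
   [5, 4, 3, 1, 2, 0, 3, 2, 4, 3, 1],
   [5, 4, 3, 1, 2, 0, 3, 2, 4, 3, 5],
   [5, 4, 3, 1, 2, 0, 3, 2, 4, 3, 1, 5],
   [5, 4, 3, 1, 2, 0, 3, 2, 4, 3, 5, 4],
   [5, 4, 3, 1, 2, 0, 3, 2, 4, 3, 1, 5, 4],
   [5, 4, 3, 1, 2, 0, 3, 2, 4, 3, 1, 5, 4, 3],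
   [5, 4, 3, 1, 2, 0, 3, 2, 4, 3, 1, 5, 4, 3, 2],
   [5, 4, 3, 1, 2, 0, 3, 2, 4, 3, 1, 5, 4, 3, 2, 0]]

def T5 : List (List (ℕ × ℕ × ℕ)) :=
  [[(1, 0, 1), (2, 0, 1), (3, 0, 1), (4, 0, 1), (5, 0, 1), (0, 1, 1)],
   [(1, 1, 64), (2, 1, 64), (3, 1, 64), (4, 1, 64), (0, 2, 1), (0, 0, 64)],
   [(1, 2, 4160), (2, 2, 4160), (3, 2, 4160), (0, 3, 1), (0, 1, 65), (5, 2, 64)],
   [(1, 3, 270400), (0, 4, 1), (0, 5, 1), (0, 2, 66), (4, 3, 4160), (5, 3, 4224)],
   [(1, 4, 17571904), (0, 3, 67), (0, 6, 1), (2, 4, 270400), (4, 4, 274496), (5, 4, 274560)],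
   [(0, 7, 1), (0, 6, 67), (0, 3, 67), (3, 5, 270400), (4, 5, 274496), (5, 5, 274560)],
   [(0, 8, 1), (0, 5, 4292), (0, 4, 68), (0, 9, 1), (4, 6, 17838144), (5, 6, 17838208)],
   [(0, 5, 68), (0, 8, 4355), (1, 7, 17571904), (3, 7, 17834048), (4, 7, 17838144), (5, 7, 17838208)],
   [(0, 6, 69), (0, 7, 274693), (1, 8, 1141645376), (0, 10, 1), (4, 8, 1158688832), (5, 8, 1158688896)],
   [(0, 10, 69), (3, 9, 72008351808), (2, 9, 17834048), (0, 6, 69), (0, 11, 1), (5, 9, 1158688896)],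
   [(0, 9, 4422), (3, 10, 18876763602436160), (0, 12, 1), (0, 8, 70), (0, 13, 1), (5, 10, 75246874752)],
   [(0, 13, 4485), (3, 11, 4813652246592), (2, 11, 1175461952), (4, 11, 1158688832), (0, 9, 70), (0, 14, 1)],
   [(2, 12, 4748155035712), (3, 12, 1279884659266175040), (0, 10, 71), (1, 12, 75229831232), (0, 15, 1), (5, 12, 4885610246272)],
   [(0, 11, 283015), (3, 13, 1279884659266175040), (0, 15, 71), (4, 13, 75246874688), (0, 10, 71), (0, 16, 1)],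
   [(0, 16, 291205), (3, 14, 312676908023872), (2, 14, 76337389632), (4, 14, 76320616512), (5, 14, 75246874752), (0, 11, 71)],
   [(2, 15, 317009457324096), (3, 15, 83137311486352310336), (0, 13, 4552), (0, 17, 1), (0, 12, 72), (0, 18, 1)],
   [(0, 14, 18112968), (3, 16, 83137311486352310336), (0, 18, 4615), (4, 16, 4954329722944), (5, 16, 4885610246272), (0, 13, 72)],
   [(2, 17, 20583207780491328), (0, 19, 1), (4, 17, 20020328710287424), (0, 15, 73), (1, 17, 4954312679488), (0, 20, 1)],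
   [(2, 18, 20583207780491328), (3, 18, 5395799604714703175744), (0, 16, 291337), (0, 20, 73), (5, 18, 317146912534656), (0, 15, 73)],
   [(2, 19, 1335634298972676160), (0, 17, 74), (4, 19, 1335071419902472256), (3, 19, 5395799604714703175744), (1, 19, 326011707990080), (0, 21, 1)],
   [(2, 20, 1335634298972676160), (0, 21, 74), (4, 20, 1335071419902472256), (0, 18, 4682), (0, 22, 1), (0, 17, 74)],
   [(2, 21, 86651825639879352384), (0, 20, 4747), (4, 21, 86651262760809148480), (3, 21, 354850919337068448989248), (0, 23, 1), (0, 19, 75)],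
   [(2, 22, 86651825639879352384), (0, 23, 4810), (4, 22, 86651262760809148480), (5, 22, 84345710089237180544), (0, 20, 75), (1, 22, 326011707990080)],
   [(2, 23, 5620675047752744837184), (0, 22, 303820), (4, 23, 5620674484873674633280), (0, 24, 1), (0, 21, 76), (1, 23, 21155159984578624)],
   [(2, 24, 364520527745845781078080), (5, 24, 91824003881979304599197069440), (0, 25, 1), (0, 23, 77), (3, 24, 23022210037111365474730048), (1, 24, 1390249446705209408)],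
   [(0, 26, 1), (5, 25, 6192392517480333299302081245312), (0, 24, 78), (4, 25, 364520527182966710874176), (3, 25, 1512418819802334508712738880), (1, 25, 90165205301432426560)],
   [(0, 25, 79), (5, 26, 401699379788687906566273481322624), (2, 26, 23636342555327457394171968), (4, 26, 23938574009668235617644608), (3, 26, 98071741884061995950844428352), (1, 26, 5845549356298812530752)]]

theorem lvl5 : LevelOK 6 mc 5 D5 T5 :=
  levelOK_of_check _ _ _ _ _ (by decide +kernel)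

def Ds : List (List (List ℕ)) := [D0, D1, D2, D3, D4, D5]

def Ts : List (List (List (ℕ × ℕ × ℕ))) := [T0, T1, T2, T3, T4, T5]

theorem allok : AllOK 6 mc Ds Ts := by
  intro k hk
  interval_cases k
  · exact lvl0
  · exact lvl1
  · exact lvl2
  · exact lvl3
  · exact lvl4
  · exact lvl5

theorem hbound : bound Ds 6 = 51840 := by
  decide +kernel

def R : ℕ := 27

def tc : List ℕ :=
  [10736104290209017401676343658223682857669225794970877148002385921,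
   10736104265784491207351531106613741978443172350703697824504217856,
   10736104240882938174625127264557068233476584539183116090425278976,
   10736098037627583345991689609791100416646322592696022860564726016,
   10734503629266866486685686469676171833812594895382927700234731776,
   10326335088923347570017439501220373061438816228295360164971806976]

def U : List (List ℕ) :=
  [[], [0], [2, 0], [3, 2, 0], [1, 3, 2, 0], [4, 3, 2, 0], [4, 1, 3, 2, 0], [5, 4, 3, 2, 0], [3, 4, 1, 3, 2, 0], [5, 4, 1, 3, 2, 0], [2, 3, 4, 1, 3, 2, 0], [5, 3, 4, 1, 3, 2, 0], [0, 2, 3, 4, 1, 3, 2, 0], [5, 2, 3, 4, 1, 3, 2, 0], [4, 5, 3, 4, 1, 3, 2, 0], [5, 0, 2, 3, 4, 1, 3, 2, 0], [4, 5, 2, 3, 4, 1, 3, 2, 0], [4, 5, 0, 2, 3, 4, 1, 3, 2, 0], [3, 4, 5, 2, 3, 4, 1, 3, 2, 0], [3, 4, 5, 0, 2, 3, 4, 1, 3, 2, 0], [1, 3, 4, 5, 2, 3, 4, 1, 3, 2, 0], [1, 3, 4, 5, 0, 2, 3, 4, 1, 3, 2, 0], [2, 3, 4, 5, 0, 2, 3, 4, 1, 3, 2, 0], [2, 1, 3,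 4, 5, 0, 2, 3, 4, 1, 3, 2, 0], [3, 2, 1, 3, 4, 5, 0, 2, 3, 4, 1, 3, 2, 0], [4, 3, 2, 1, 3, 4, 5, 0, 2, 3, 4, 1, 3, 2, 0], [5, 4, 3, 2, 1, 3, 4, 5, 0, 2, 3, 4, 1, 3, 2, 0]]

def lv : List (ℕ × List (List ℕ)) :=
  (0, U) :: [(1, [[], [2], [3, 2], [1, 3, 2], [4, 3, 2], [4, 1, 3, 2], [5, 4, 3, 2], [3, 4, 1, 3, 2], [5, 4, 1, 3, 2], [2, 3, 4, 1, 3, 2], [5, 3, 4, 1, 3, 2], [5, 2, 3, 4, 1, 3, 2], [4, 5, 3, 4, 1, 3, 2], [4, 5, 2, 3, 4, 1, 3, 2], [3, 4, 5, 2, 3, 4, 1, 3, 2], [1, 3, 4, 5, 2, 3, 4, 1, 3, 2]]),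
   (2, [[], [3], [1, 3], [4, 3], [4, 1, 3], [5, 4, 3], [3, 4, 1, 3], [5, 4, 1, 3], [5, 3, 4, 1, 3], [4, 5, 3, 4, 1, 3]]),
   (8, [[], [5], [4, 5]]),
   (7, [[], [1]]),
   (3, [[], [4]])]

def V : List (List ℕ) := [[1], [2], [3], [4], [5]]

theorem hperm : permCheck 6 mc R tc = true := by
  decide +kernel

theorem hchain : chainCheck 6 R tc lv = true := by
  decide +kernel

theorem hsize : chainSize lv = 51840 := by
  decide +kernel

theorem hrep : Rep (CoxeterMatrix.E₆) R tc :=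
  rep_of_check _ mc (mcCheck_sound _ _ hmc) R tc hperm

theorem card_inj : Nat.card (CoxeterMatrix.E₆).Group = 51840 ∧ Function.Injective (rho (CoxeterMatrix.E₆) R tc hrep) :=
  main _ mc hmc Ds Ts allok R tc hperm lv hchain _ hbound hsize

/-- The order of the Coxeter group of type E6. -/
theorem card : Nat.card (CoxeterMatrix.E₆).Group = 51840 := card_inj.1

theorem horder : orderCheck 6 R tc 12 = true := by
  decide +kernel

/-- The order of the Coxeter element of the Coxeter group of type E6. -/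
theorem order : orderOf ((List.finRange 6).map (CoxeterMatrix.E₆).simple).prod = 12 :=
  orderOf_cox _ R tc hrep card_inj.2 12 horder

theorem hcenter : centerCheck 6 R tc 0 0 U V 0 = true := by
  decide +kernel

/-- The centre of the Coxeter group of type E6. -/
theorem center : Nat.card (Subgroup.center (CoxeterMatrix.E₆).Group) = 1 ∧
    Subgroup.center (CoxeterMatrix.E₆).Group ≤ Subgroup.zpowers ((List.finRange 6).map (CoxeterMatrix.E₆).simple).prod :=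
  center_one _ R tc hrep card_inj.2 0 0 U V hcenter

end Cfsg.Agent.Lib.Helper19.CoxDataE6
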