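import Cfsg.Agent.Lib.Helper19.CoxLower
import Mathlib

set_option autoImplicit false
set_option maxRecDepth 100000
set_option maxHeartbeats 4000000

/-!
Certificates for the Coxeter group of type F4: coset tables with rewriting steps (upper
bound for the order), a faithful permutation representation with a chain of transversals
(lower bound), and the resulting order, Coxeter number and centre.  Generated data.
-/

namespace Cfsg.Agent.Lib.Helper19.CoxDataF4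

open Cfsg.Agent.Lib.Helper19.CoxUpper Cfsg.Agent.Lib.Helper19.CoxLower

def mc : ℕ := 1378718596071629361

theorem hmc : mcCheck (CoxeterMatrix.F₄) mc = true := by
  decide +kernel

def D0 : List (List ℕ) :=
  [[],
   [0]]

def T0 : List (List (ℕ × ℕ × ℕ)) :=
  [[(0, 1, 1)],
   [(0, 0, 64)]]

theorem lvl0 : LevelOK 4 mc 0 D0 T0 :=
  levelOK_of_check _ _ _ _ _ (by decide +kernel)

def D1 : List (List ℕ) :=
  [[],
   [1],
   [1, 0]]

def T1 : List (List (ℕ × ℕ × ℕ)) :=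
  [[(1, 0, 1), (0, 1, 1)],
   [(0, 2, 1), (0, 0, 64)],
   [(0, 1, 65), (1, 2, 64)]]

theorem lvl1 : LevelOK 4 mc 1 D1 T1 :=
  levelOK_of_check _ _ _ _ _ (by decide +kernel)

def D2 : List (List ℕ) :=
  [[],
   [2],
   [2, 1],
   [2, 1, 0],
   [2, 1, 2],
   [2, 1, 0, 2],
   [2, 1, 0, 2, 1],
   [2, 1, 0, 2, 1, 2]]

def T2 : List (List (ℕ × ℕ × ℕ)) :=
  [[(1, 0, 1), (2, 0, 1), (0, 1, 1)],
   [(1, 1, 64), (0, 2, 1), (0, 0, 64)],
   [(0, 3, 1), (0, 1, 65), (0, 4, 1)],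
   [(0, 2, 66), (1, 3, 4160), (0, 5, 1)],
   [(0, 5, 66), (2, 4, 64), (0, 2, 66)],
   [(0, 4, 4227), (0, 6, 1), (0, 3, 67)],
   [(2, 6, 17313795), (0, 5, 68), (0, 7, 1)],
   [(2, 7, 1158164483), (1, 7, 274496), (0, 6, 69)]]

theorem lvl2 : LevelOK 4 mc 2 D2 T2 :=
  levelOK_of_check _ _ _ _ _ (by decide +kernel)

def D3 : List (List ℕ) :=
  [[],
   [3],
   [3, 2],
   [3, 2, 1],
   [3, 2, 1, 0],
   [3, 2, 1, 2],
   [3, 2, 1, 0, 2],
   [3, 2, 1, 2, 3],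
   [3, 2, 1, 0, 2, 1],
   [3, 2, 1, 0, 2, 3],
   [3, 2, 1, 0, 2, 1, 2],
   [3, 2, 1, 0, 2, 1, 3],
   [3, 2, 1, 0, 2, 1, 2, 3],
   [3, 2, 1, 0, 2, 1, 3, 2],
   [3, 2, 1, 0, 2, 1, 2, 3, 2],
   [3, 2, 1, 0, 2, 1, 3, 2, 1],
   [3, 2, 1, 0, 2, 1, 2, 3, 2, 1],
   [3, 2, 1, 0, 2, 1, 3, 2, 1, 0],
   [3, 2, 1, 0, 2, 1, 2, 3, 2, 1, 0],
   [3, 2, 1, 0, 2, 1, 2, 3, 2, 1, 2],
   [3, 2, 1, 0, 2, 1, 2, 3, 2, 1, 0, 2],
   [3, 2, 1, 0, 2, 1, 2, 3, 2, 1, 0, 2, 1],
   [3, 2, 1, 0, 2, 1, 2, 3, 2, 1, 0, 2, 1, 2],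
   [3, 2, 1, 0, 2, 1, 2, 3, 2, 1, 0, 2, 1, 2, 3]]

def T3 : List (List (ℕ × ℕ × ℕ)) :=
  [[(1, 0, 1), (2, 0, 1), (3, 0, 1), (0, 1, 1)],
   [(1, 1, 64), (2, 1, 64), (0, 2, 1), (0, 0, 64)],
   [(1, 2, 4160), (0, 3, 1), (0, 1, 65), (3, 2, 64)],
   [(0, 4, 1), (0, 2, 66), (0, 5, 1), (3, 3, 4224)],
   [(0, 3, 67), (1, 4, 270400), (0, 6, 1), (3, 4, 274560)],
   [(0, 6, 67), (2, 5, 4160), (0, 3, 67), (0, 7, 1)],
   [(0, 5, 4292), (0, 8, 1), (0, 4, 68), (0, 9, 1)],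
   [(0, 9, 4355), (2, 7, 278592), (3, 7, 274560), (0, 5, 68)],
   [(2, 8, 1125126400), (0, 6, 69), (0, 10, 1), (0, 11, 1)],
   [(0, 7, 274693), (0, 11, 69), (3, 9, 17838208), (0, 6, 69)],
   [(2, 10, 75213312256), (1, 10, 17834048), (0, 8, 70), (0, 12, 1)],
   [(2, 11, 75213312256), (0, 9, 4422), (0, 13, 1), (0, 8, 70)],
   [(2, 12, 4885576683776), (1, 12, 1192239168), (0, 14, 1), (0, 10, 71)],
   [(2, 13, 4885576683776), (0, 15, 1), (0, 11, 71), (0, 14, 70)],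
   [(2, 14, 317146878972160), (0, 16, 1), (0, 12, 72), (0, 13, 4488)],
   [(0, 17, 1), (0, 13, 72), (3, 15, 4748155039872), (0, 16, 4614)],
   [(0, 18, 1), (0, 14, 73), (0, 19, 1), (0, 15, 287241)],
   [(0, 15, 73), (2, 17, 317146878972160), (3, 17, 321407503839360), (0, 18, 299526)],
   [(0, 16, 74), (2, 18, 20583345202139392), (0, 20, 1), (0, 17, 18383434)],
   [(0, 20, 74), (1, 19, 77427908672), (0, 16, 74), (3, 19, 5174475276648149954688)],
   [(0, 19, 4747), (0, 21, 1), (0, 18, 75), (3, 20, 1356458019333594621801148544)],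
   [(1, 21, 20878088473681984), (0, 20, 76), (0, 22, 1), (3, 21, 94201960965737115239235465344)],
   [(1, 22, 1389972375194312768), (2, 22, 1353648834903806208), (0, 21, 77), (0, 23, 1)],
   [(1, 23, 90164928229921529920), (2, 23, 90128604689631023360), (3, 23, 6115542312049826772348575690880), (0, 22, 78)]]

theorem lvl3 : LevelOK 4 mc 3 D3 T3 :=
  levelOK_of_check _ _ _ _ _ (by decide +kernel)

def Ds : List (List (List ℕ)) := [D0, D1, D2, D3]

def Ts : List (List (List (ℕ × ℕ × ℕ))) := [T0, T1, T2, T3]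

theorem allok : AllOK 4 mc Ds Ts := by
  intro k hk
  interval_cases k
  · exact lvl0
  · exact lvl1
  · exact lvl2
  · exact lvl3

theorem hbound : bound Ds 4 = 1152 := by
  decide +kernel

def R : ℕ := 24

def tc : List ℕ :=
  [541649279085078547704752114593664285884107486880824688641,
   565978018496324250328460734988201715496848172665450594816,
   566073054096128938976091474853996179469638656584992358656,
   566073423838960640355931049291566969950162469740450283776]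

def U : List (List ℕ) :=
  [[], [0], [1, 0], [2, 1, 0], [1, 2, 1, 0], [3, 2, 1, 0], [0, 1, 2, 1, 0], [3, 1, 2, 1, 0], [3, 0, 1, 2, 1, 0], [2, 3, 1, 2, 1, 0], [2, 3, 0, 1, 2, 1, 0], [1, 2, 3, 1, 2, 1, 0], [1, 2, 3, 0, 1, 2, 1, 0], [0, 1, 2, 3, 1, 2, 1, 0], [0, 1, 2, 3, 0, 1, 2, 1, 0], [2, 1, 2, 3, 0, 1, 2, 1, 0], [2, 0, 1, 2, 3, 0, 1, 2, 1, 0], [3, 2, 1, 2, 3, 0, 1, 2, 1, 0], [1, 2, 0, 1, 2, 3, 0, 1, 2, 1, 0], [3, 2, 0, 1, 2, 3, 0, 1, 2, 1, 0], [3, 1, 2, 0, 1, 2, 3, 0, 1, 2, 1, 0], [2, 3, 1, 2, 0, 1, 2, 3, 0, 1, 2, 1, 0], [1, 2, 3, 1, 2, 0, 1, 2, 3, 0, 1, 2, 1, 0], [0, 1, 2, 3, 1, 2, 0, 1, 2, 3, 0, 1, 2, 1, 0]]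

def lv : List (ℕ × List (List ℕ)) :=
  (0, U) :: [(1, [[], [1], [2, 1], [1, 2, 1], [3, 2, 1], [3, 1, 2, 1], [2, 3, 1, 2, 1], [1, 2, 3, 1, 2, 1]]),
   (2, [[], [2], [3, 2]]),
   (3, [[], [3]])]

def V : List (List ℕ) := [[1], [2], [3]]

theorem hperm : permCheck 4 mc R tc = true := by
  decide +kernel

theorem hchain : chainCheck 4 R tc lv = true := by
  decide +kernel

theorem hsize : chainSize lv = 1152 := by
  decide +kernel

theorem hrep : Rep (CoxeterMatrix.F₄) R tc :=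
  rep_of_check _ mc (mcCheck_sound _ _ hmc) R tc hperm

theorem card_inj : Nat.card (CoxeterMatrix.F₄).Group = 1152 ∧ Function.Injective (rho (CoxeterMatrix.F₄) R tc hrep) :=
  main _ mc hmc Ds Ts allok R tc hperm lv hchain _ hbound hsize

/-- The order of the Coxeter group of type F4. -/
theorem card : Nat.card (CoxeterMatrix.F₄).Group = 1152 := card_inj.1

theorem horder : orderCheck 4 R tc 12 = true := by
  decide +kernel

/-- The order of the Coxeter element of the Coxeter group of type F4. -/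
theorem order : orderOf ((List.finRange 4).map (CoxeterMatrix.F₄).simple).prod = 12 :=
  orderOf_cox _ R tc hrep card_inj.2 12 horder

theorem hcenter : centerCheck 4 R tc 0 23 U V 6 = true := by
  decide +kernel

/-- The centre of the Coxeter group of type F4. -/
theorem center : Nat.card (Subgroup.center (CoxeterMatrix.F₄).Group) = 2 ∧
    Subgroup.center (CoxeterMatrix.F₄).Group ≤ Subgroup.zpowers ((List.finRange 4).map (CoxeterMatrix.F₄).simple).prod :=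
  center_two _ R tc hrep card_inj.2 0 23 U V 6 hcenter (by decide)

end Cfsg.Agent.Lib.Helper19.CoxDataF4
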