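import Cfsg.Agent.Lib.Helper19.CoxFold
import Cfsg.Agent.Lib.Helper19.CoxNormalData
import Cfsg.Agent.Lib.Helper19.CoxDataD4
import Cfsg.Prelude.Def_ChevStructure
import Mathlib

set_option autoImplicit false
set_option maxRecDepth 100000

/-!
The folding of the Coxeter group of type D4 by the symmetry of its diagram: the automorphism
`rhoHom`, the injective homomorphism `psi` from the folded Coxeter group, and the fact that the
elements fixed by `rhoHom` are in the range of `psi`.  Generated data.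
-/

namespace Cfsg.Agent.Lib.Helper19.CoxFoldD4

open Cfsg.Agent.Lib.Helper19.CoxUpper Cfsg.Agent.Lib.Helper19.CoxLower
  Cfsg.Agent.Lib.Helper19.CoxNormal Cfsg.Agent.Lib.Helper19.CoxFold

/-- the permutation of the nodes -/
def lperm (i : ℕ) : ℕ := [2, 1, 3, 0].getD i 0

/-- the words of the orbits of the nodes -/
def blocks : List (List ℕ) := [[1], [0, 2, 3]]

/-- the Coxeter matrix of the folded group -/
def mm (i j : ℕ) : ℕ := if i = j then 1 else 6

def bs : List ℕ := List.range 8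

def cands : List (ℕ × List ℕ) :=
  [(506097522914230528, []),
   (505817147449082368, [0]),
   (434318101040136193, [1]),
   (362259407490646018, [0, 1]),
   (432916223714395393, [1, 0]),
   (360577154699757058, [0, 1, 0]),
   (145804055166779653, [1, 0, 1]),
   (73464986152141318, [0, 1, 0, 1]),
   (144121802375890693, [1, 0, 1, 0]),
   (72063108826400518, [0, 1, 0, 1, 0]),
   (564062417454343, [1, 0, 1, 0, 1]),
   (283686952306183, [0, 1, 0, 1, 0, 1])]

theorem hl : ∀ i < 4, lperm i < 4 := by decide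

theorem hM : ∀ i j : Fin 4, (Cfsg.Lie.coxeterD4) ⟨lperm i.val, hl i.val i.isLt⟩ ⟨lperm j.val, hl j.val j.isLt⟩ =
    (Cfsg.Lie.coxeterD4) i j := by
  intro i j
  fin_cases i <;> fin_cases j <;> rfl

theorem hmm : ∀ i j : Fin 2, (CoxeterMatrix.G₂) i j = mm i.val j.val := by
  intro i j
  fin_cases i <;> fin_cases j <;> rfl

theorem hlift : liftCheck 4 Cfsg.Agent.Lib.Helper19.CoxDataD4.R Cfsg.Agent.Lib.Helper19.CoxDataD4.tc 2 mm blocks = true := by
  decide +kernel

theorem hf : (CoxeterMatrix.G₂).IsLiftable (foldGen (Cfsg.Lie.coxeterD4) blocks) :=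
  liftable_of_check _ Cfsg.Agent.Lib.Helper19.CoxDataD4.R Cfsg.Agent.Lib.Helper19.CoxDataD4.tc Cfsg.Agent.Lib.Helper19.CoxDataD4.hrep Cfsg.Agent.Lib.Helper19.CoxDataD4.card_inj.2 _ mm hmm blocks hlift

theorem hfix : fixCheck 4 Cfsg.Agent.Lib.Helper19.CoxDataD4.R Cfsg.Agent.Lib.Helper19.CoxDataD4.tc lperm 2 blocks bs (prodsW Cfsg.Agent.Lib.Helper19.CoxDataD4.lv) cands = true := by
  decide +kernel

/-- the automorphism of the Coxeter group induced by the symmetry of the diagram -/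
noncomputable def rhoHom : (Cfsg.Lie.coxeterD4).Group →* (Cfsg.Lie.coxeterD4).Group :=
  graphHom (Cfsg.Lie.coxeterD4) lperm hl hM

/-- the homomorphism from the folded Coxeter group -/
noncomputable def psi : (CoxeterMatrix.G₂).Group →* (Cfsg.Lie.coxeterD4).Group :=
  (CoxeterMatrix.G₂).toCoxeterSystem.lift ⟨foldGen (Cfsg.Lie.coxeterD4) blocks, hf⟩

theorem rhoHom_simple (i : Fin 4) :
    rhoHom ((Cfsg.Lie.coxeterD4).toCoxeterSystem.simple i) =
      (Cfsg.Lie.coxeterD4).toCoxeterSystem.simple ⟨lperm i.val, hl i.val i.isLt⟩ :=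
  graphHom_simple _ lperm hl hM i

theorem psi_simple (k : Fin 2) :
    psi ((CoxeterMatrix.G₂).toCoxeterSystem.simple k) =
      (Cfsg.Lie.coxeterD4).toCoxeterSystem.wordProd (wd 4 (blocks.getD k.val [])) := by
  unfold psi
  rw [CoxeterSystem.lift_apply_simple]
  rfl

theorem fix_range (g : (Cfsg.Lie.coxeterD4).Group) (hg : rhoHom g = g) : g ∈ psi.range :=
  fix_mem_range _ Cfsg.Agent.Lib.Helper19.CoxDataD4.R Cfsg.Agent.Lib.Helper19.CoxDataD4.tc Cfsg.Agent.Lib.Helper19.CoxDataD4.hrep Cfsg.Agent.Lib.Helper19.CoxDataD4.card_inj.2 Cfsg.Agent.Lib.Helper19.CoxDataD4.lv Cfsg.Agent.Lib.Helper19.CoxDataD4.hchain _ Cfsg.Agent.Lib.Helper19.CoxDataD4.hsize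
    Cfsg.Agent.Lib.Helper19.CoxDataD4.card (by decide) lperm hl hM _ blocks hf bs cands hfix g hg

theorem pow_ne (k : ℕ) (x : ℕ)
    (h : actT 4 Cfsg.Agent.Lib.Helper19.CoxDataD4.R Cfsg.Agent.Lib.Helper19.CoxDataD4.tc (List.replicate k [1, 0, 2, 3]).flatten x ≠ x) :
    (foldGen (Cfsg.Lie.coxeterD4) blocks (0 : Fin 2) * foldGen (Cfsg.Lie.coxeterD4) blocks (1 : Fin 2)) ^ k ≠ 1 := by
  have e : foldGen (Cfsg.Lie.coxeterD4) blocks (0 : Fin 2) * foldGen (Cfsg.Lie.coxeterD4) blocks (1 : Fin 2) =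
      (Cfsg.Lie.coxeterD4).toCoxeterSystem.wordProd (wd 4 [1, 0, 2, 3]) := by
    show (Cfsg.Lie.coxeterD4).toCoxeterSystem.wordProd (wd 4 [1]) * (Cfsg.Lie.coxeterD4).toCoxeterSystem.wordProd (wd 4 [0, 2, 3]) = _
    rw [← CoxeterSystem.wordProd_append, ← wd_append]
    rfl
  rw [e, ← wordProd_replicate]
  exact ne_one_of_act _ Cfsg.Agent.Lib.Helper19.CoxDataD4.R Cfsg.Agent.Lib.Helper19.CoxDataD4.tc Cfsg.Agent.Lib.Helper19.CoxDataD4.hrep _ x h

theorem psi_injective : Function.Injective psi :=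
  Cfsg.Agent.Lib.Helper19.CoxNormalData.g2_injective _ hf
    (pow_ne 2 0 (by decide +kernel)) (pow_ne 3 0 (by decide +kernel))

end Cfsg.Agent.Lib.Helper19.CoxFoldD4
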