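import Cfsg.Agent.Lib.Helper19.CoxDataE6
import Cfsg.Agent.Lib.Helper19.CoxChev
import Cfsg.Prelude.Def_ChevE6
import Mathlib

set_option autoImplicit false
set_option maxRecDepth 100000
set_option maxHeartbeats 4000000

/-!
The Coxeter group of type E6 acts faithfully on the root indices of the Chevalley datum
`chevE6` through the reflections `reflectRoot`; table facts about these reflections.
Generated data.
-/

namespace Cfsg.Agent.Lib.Helper19.CoxRootE6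

open Cfsg Cfsg.Lie Cfsg.Agent.Lib.Helper19.CoxUpper Cfsg.Agent.Lib.Helper19.CoxLower
  Cfsg.Agent.Lib.Helper19.CoxChev

def tc : List ℕ :=
  [68860739535078100914596739045472550060558126031925906698557184978812794185875324317535844633006154102049939227231216439978584304288106533539790046234022772551535750302269696,
   67898379116758311409174261616388753868225998791303625563428882050626415270252589797741478371984307561973422256644613195820774439032392954730690482532434882508821640184463361,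
   68860695135535158216797058934368584078938789528211777354868258615236502524939434476014300653026239562496047166733737140692285179851664431971808751874688785261135318011412736,
   68856980314703697980439144254334973515401028023823060939175680109056393390696631820261994746199928716884708600540244424635743493790229057459399689936210111163618278074548736,
   68860724850632303803458732998465812266828810094652722312245356555948991877575451183817923578624086719198522082862514929281160200302940551006277733868069131789022201037127936,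
   68860739477726650154684651250440147524905899556371060941805998667168077050675229181777609482453672249988869994526207384147299178654162362870440666247900439482662894518272256]

def lv : List (ℕ × List (List ℕ)) :=
  [(71, [[], [1], [3, 1], [2, 3, 1], [4, 3, 1], [0, 2, 3, 1], [4, 2, 3, 1], [5, 4, 3, 1], [4, 0, 2, 3, 1], [3, 4, 2, 3, 1], [5, 4, 2, 3, 1], [3, 4, 0, 2, 3, 1], [5, 4, 0, 2, 3, 1], [1, 3, 4, 2, 3, 1], [5, 3, 4, 2, 3, 1], [1, 3, 4, 0, 2, 3, 1], [2, 3, 4, 0, 2, 3, 1], [5, 3, 4, 0, 2, 3, 1], [5, 1, 3, 4, 2, 3, 1], [4, 5, 3, 4, 2, 3, 1], [2, 1, 3, 4, 0, 2, 3, 1], [5, 1, 3, 4, 0, 2, 3, 1], [5, 2, 3, 4, 0, 2, 3, 1], [4, 5, 3, 4, 0, 2, 3, 1], [4, 5, 1, 3, 4, 2, 3, 1], [3, 2, 1, 3, 4, 0, 2, 3, 1], [5, 2, 1, 3, 4, 0, 2, 3, 1], [4, 5, 1, 3, 4, 0, 2, 3, 1], [4, 5, 2, 3, 4, 0, 2, 3, 1], [3, 4, 5, 1, 3, 4, 2, 3, 1], [4, 3, 2, 1, 3, 4,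 0, 2, 3, 1], [5, 3, 2, 1, 3, 4, 0, 2, 3, 1], [4, 5, 2, 1, 3, 4, 0, 2, 3, 1], [3, 4, 5, 1, 3, 4, 0, 2, 3, 1], [3, 4, 5, 2, 3, 4, 0, 2, 3, 1], [2, 3, 4, 5, 1, 3, 4, 2, 3, 1], [5, 4, 3, 2, 1, 3, 4, 0, 2, 3, 1], [4, 5, 3, 2, 1, 3, 4, 0, 2, 3, 1], [3, 4, 5, 2, 1, 3, 4, 0, 2, 3, 1], [2, 3, 4, 5, 1, 3, 4, 0, 2, 3, 1], [1, 3, 4, 5, 2, 3, 4, 0, 2, 3, 1], [0, 2, 3, 4, 5, 1, 3, 4, 2, 3, 1], [4, 5, 4, 3, 2, 1, 3, 4, 0, 2, 3, 1], [3, 4, 5, 3, 2, 1, 3, 4, 0, 2, 3, 1], [1, 3, 4, 5, 2, 1, 3, 4, 0, 2, 3, 1], [2, 3, 4, 5, 2, 1, 3, 4, 0, 2, 3, 1], [0, 2, 3, 4, 5, 1, 3, 4, 0, 2, 3, 1], [3, 4, 5, 4, 3, 2, 1, 3, 4, 0, 2, 3, 1], [1, 3, 4, 5, 3, 2, 1, 3, 4, 0, 2, 3, 1], [2, 3, 4, 5, 3, 2, 1, 3, 4, 0, 2, 3, 1], [2, 1, 3, 4, 5, 2, 1, 3, 4, 0, 2, 3, 1], [0, 2, 3, 4, 5, 2, 1, 3, 4, 0, 2, 3, 1], [1, 3, 4, 5, 4, 3, 2, 1, 3, 4, 0, 2, 3, 1], [2, 3, 4, 5, 4, 3, 2,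 1, 3, 4, 0, 2, 3, 1], [2, 1, 3, 4, 5, 3, 2, 1, 3, 4, 0, 2, 3, 1], [0, 2, 3, 4, 5, 3, 2, 1, 3, 4, 0, 2, 3, 1], [0, 2, 1, 3, 4, 5, 2, 1, 3, 4, 0, 2, 3, 1], [2, 1, 3, 4, 5, 4, 3, 2, 1, 3, 4, 0, 2, 3, 1], [0, 2, 3, 4, 5, 4, 3, 2, 1, 3, 4, 0, 2, 3, 1], [0, 2, 1, 3, 4, 5, 3, 2, 1, 3, 4, 0, 2, 3, 1], [3, 2, 1, 3, 4, 5, 3, 2, 1, 3, 4, 0, 2, 3, 1], [0, 2, 1, 3, 4, 5, 4, 3, 2, 1, 3, 4, 0, 2, 3, 1], [3, 2, 1, 3, 4, 5, 4, 3, 2, 1, 3, 4, 0, 2, 3, 1], [3, 0, 2, 1, 3, 4, 5, 3, 2, 1, 3, 4, 0, 2, 3, 1], [3, 0, 2, 1, 3, 4, 5, 4, 3, 2, 1, 3, 4, 0, 2, 3, 1], [4, 3, 2, 1, 3, 4, 5, 4, 3, 2, 1, 3, 4, 0, 2, 3, 1], [2, 3, 0, 2, 1, 3, 4, 5, 3, 2, 1, 3, 4, 0, 2, 3, 1], [2, 3, 0, 2, 1, 3, 4, 5, 4, 3, 2, 1, 3, 4, 0, 2, 3, 1], [4, 3, 0, 2, 1, 3, 4, 5, 4, 3, 2, 1, 3, 4, 0, 2, 3, 1], [4, 2, 3, 0, 2, 1, 3, 4, 5, 4, 3, 2, 1, 3, 4, 0, 2, 3, 1], [3, 4, 2, 3, 0, 2, 1,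 3, 4, 5, 4, 3, 2, 1, 3, 4, 0, 2, 3, 1], [1, 3, 4, 2, 3, 0, 2, 1, 3, 4, 5, 4, 3, 2, 1, 3, 4, 0, 2, 3, 1]]),
   (25, [[], [3], [2, 3], [4, 3], [0, 2, 3], [4, 2, 3], [5, 4, 3], [4, 0, 2, 3], [3, 4, 2, 3], [5, 4, 2, 3], [3, 4, 0, 2, 3], [5, 4, 0, 2, 3], [5, 3, 4, 2, 3], [2, 3, 4, 0, 2, 3], [5, 3, 4, 0, 2, 3], [4, 5, 3, 4, 2, 3], [5, 2, 3, 4, 0, 2, 3], [4, 5, 3, 4, 0, 2, 3], [4, 5, 2, 3, 4, 0, 2, 3], [3, 4, 5, 2, 3, 4, 0, 2, 3]]),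
   (18, [[], [0], [5], [2, 0], [5, 0], [4, 5], [5, 2, 0], [4, 5, 0], [4, 5, 2, 0]]),
   (7, [[], [2]]),
   (3, [[], [4]])]

theorem hperm : permCheck 6 Cfsg.Agent.Lib.Helper19.CoxDataE6.mc 72 tc = true := by
  decide +kernel

theorem hchain : chainCheck 6 72 tc lv = true := by
  decide +kernel

theorem hsize : chainSize lv = 51840 := by
  decide +kernel

theorem htab : tabCheck chevE6 Cfsg.Agent.Lib.Helper19.CoxDataE6.mc tc = true := by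
  decide +kernel

/-- `N / H` is the Coxeter group, for the datum `chevE6`. -/
theorem hom {F : Type*} [Field F] {A : Cfsg.Agent.Lib.Helper18.Fast.FData}
    (hF : Cfsg.Agent.Lib.Helper18.AllRoots.AFacts A chevE6)
    (W : Cfsg.Agent.Lib.Helper36.ChevWeyl.WeylData chevE6 F) :
    ∃ φ : ↥(chevE6.monomialSubgroup F) →* (CoxeterMatrix.E₆).Group, Function.Surjective φ ∧
      φ.ker = (chevE6.diagonalSubgroup F).subgroupOf (chevE6.monomialSubgroup F) ∧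
      ∀ (i : Fin 6) (g : ↥(chevE6.monomialSubgroup F)),
        ((g : GL chevE6.Idx F) : Matrix chevE6.Idx chevE6.Idx F) = chevE6.nMat F (chevE6.simple i) 1 →
          φ g = (CoxeterMatrix.E₆).simple i :=
  chev_hom_of_checks hF W (CoxeterMatrix.E₆) Cfsg.Agent.Lib.Helper19.CoxDataE6.mc
    Cfsg.Agent.Lib.Helper19.CoxDataE6.hmc tc hperm lv hchain 51840 (by decide) hsize
    Cfsg.Agent.Lib.Helper19.CoxDataE6.card htab

end Cfsg.Agent.Lib.Helper19.CoxRootE6
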