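import Mathlib
import Cfsg.Agent.Lib.Helper40.GFStmt

set_option autoImplicit false

/-!
Piece COORD of the call S5886 (helper40): `F ^ N` is a vector space over `L` through an algebra
homomorphism `ι : L → M_N(F)`, hence has `L`-coordinates compatible with the action of `ι`.
-/

namespace Cfsg.Agent.Lib.Helper19.GFCOORD

open Cfsg.Agent.Lib.Helper40.GFStmt

universe u

theorem main : Coord.{u} := by
  intro F L _ _ _ _ N ι
  let ι' : L →+* Module.End F (Fin N → F) :=
    ((Matrix.toLinAlgEquiv' : Matrix (Fin N) (Fin N) F ≃ₐ[F] _).toAlgHom.comp ι).toRingHom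
  letI : Module L (Fin N → F) := Module.compHom (Fin N → F) ι'
  have hsmul : ∀ (a : L) (x : Fin N → F), a • x = Matrix.mulVec (ι a) x := by
    intro a x
    rfl
  haveI : IsScalarTower F L (Fin N → F) := by
    constructor
    intro s a x
    rw [hsmul, hsmul, map_smul, Matrix.smul_mulVec]
  haveI : Module.Finite L (Fin N → F) := Module.Finite.of_restrictScalars_finite F L _
  let bas := Module.finBasis L (Fin N → F)
  refine ⟨Module.finrank L (Fin N → F), (bas.equivFun).restrictScalars F, ?_⟩
  intro a x
  rw [← hsmul]
  exact map_smul bas.equivFun a x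

end Cfsg.Agent.Lib.Helper19.GFCOORD
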