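import Mathlib
import Cfsg.Agent.Lib.Helper19.BlockRel

set_option autoImplicit false
set_option linter.unusedSectionVars false

/-!
An automorphism of a simple matrix group from a relation between two diagonal blocks: if the
generators `x a` of a simple group `G` of matrices stabilise a coordinate subspace, the block of
`x a` on the quotient is the block of `x' a` on the subspace, the family of the pairs `(x a, x' a)`
is stable under inversion and under `(g, g') ↦ (g', Fr g)` for an injective endomorphism `Fr` of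
the general linear group, and every `x a` is some `x' b`, then `x a ↦ x' a` extends to an
automorphism of `G`.
-/

namespace Cfsg.Agent.Lib.Helper19.GraphRel

open Matrix Cfsg.Agent.Lib.Helper19.BlockRel

variable {ι : Type*} [Fintype ι] [DecidableEq ι] {K : Type*} [Field K]
variable {c : ι → Bool} {T : ι → ι}

/-- stability of the coordinate subspace passes from the generators to the group -/
theorem inv_of_closure {R : Type*} (x : R → GL ι K)
    (hx : ∀ a, Inv c (x a : Matrix ι ι K)) (hinv : ∀ a, ∃ b, x b = (x a)⁻¹) :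
    ∀ g ∈ Subgroup.closure (Set.range x), Inv c (g : Matrix ι ι K) := by
  intro g hg
  induction hg using Subgroup.closure_induction'' with
  | mem q hq =>
    obtain ⟨a, rfl⟩ := hq
    exact hx a
  | inv_mem q hq =>
    obtain ⟨a, rfl⟩ := hq
    obtain ⟨b, hb⟩ := hinv a
    rw [← hb]
    exact hx b
  | one => exact inv_one
  | mul q q' _ _ ih ih' => exact inv_mul ih ih'

/-- a simple group of matrices stabilising the coordinate subspace acts faithfully on it as soon
as it acts non-trivially -/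
theorem faith_of_simple (G : Subgroup (GL ι K)) (hInvG : ∀ g ∈ G, Inv c (g : Matrix ι ι K))
    (hsimple : IsSimpleGroup ↥G) (hnt : ∃ g ∈ G, blk c (g : Matrix ι ι K) ≠ 1) :
    ∀ g ∈ G, blk c (g : Matrix ι ι K) = 1 → g = 1 := by
  classical
  let ρ : ↥G →* Matrix {i // c i = true} {i // c i = true} K :=
    { toFun := fun g => blk c ((g : GL ι K) : Matrix ι ι K)
      map_one' := blk_one
      map_mul' := fun g h => blk_mul (hInvG h h.2) }
  have hker : ρ.toHomUnits.ker = ⊥ := by
    rcases hsimple.eq_bot_or_eq_top_of_normal ρ.toHomUnits.ker inferInstance with h | h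
    · exact h
    · exfalso
      obtain ⟨g, hgG, ha⟩ := hnt
      have hmem : (⟨g, hgG⟩ : ↥G) ∈ ρ.toHomUnits.ker := by
        rw [h]
        exact Subgroup.mem_top _
      rw [MonoidHom.mem_ker] at hmem
      have h2 := congrArg Units.val hmem
      rw [MonoidHom.coe_toHomUnits] at h2
      exact ha h2
  intro y hyG hb
  have hmem : (⟨y, hyG⟩ : ↥G) ∈ ρ.toHomUnits.ker := by
    rw [MonoidHom.mem_ker]
    apply Units.ext
    rw [MonoidHom.coe_toHomUnits]
    exact hb
  rw [hker, Subgroup.mem_bot] at hmem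
  exact congrArg Subtype.val hmem

theorem exists_aut (hT : ∀ i, T (T i) = i) (hc : ∀ i, c (T i) = !c i)
    {R : Type*} (x x' : R → GL ι K) (G : Subgroup (GL ι K))
    (hG : G = Subgroup.closure (Set.range x))
    (hfaith : ∀ g ∈ G, blk c (g : Matrix ι ι K) = 1 → g = 1)
    (hrel : ∀ a, Rel c T (x a : Matrix ι ι K) (x' a : Matrix ι ι K))
    (hinv : ∀ a, ∃ b, x b = (x a)⁻¹ ∧ x' b = (x' a)⁻¹)
    (hsurj : ∀ a, ∃ b, x' b = x a)
    (Fr : GL ι K →* GL ι K) (hFr : Function.Injective Fr)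
    (hfrob : ∀ a, ∃ b, x b = x' a ∧ x' b = Fr (x a)) :
    ∃ α : ↥G ≃* ↥G, ∀ (a : R) (g : ↥G), (g : GL ι K) = x a → ((α g : ↥G) : GL ι K) = x' a := by
  classical
  let Γ : Subgroup (GL ι K × GL ι K) := Subgroup.closure (Set.range (fun a => (x a, x' a)))
  have hxG : ∀ a, x a ∈ G := fun a => by
    rw [hG]
    exact Subgroup.subset_closure ⟨a, rfl⟩
  have hx'G : ∀ a, x' a ∈ G := fun a => by
    obtain ⟨b, hb, -⟩ := hfrob a
    rw [← hb]
    exact hxG b
  have hgen : ∀ a, (x a, x' a) ∈ Γ := fun a => Subgroup.subset_closure ⟨a, rfl⟩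
  -- Claim 1
  have claim1 : ∀ p ∈ Γ, p.1 ∈ G ∧ p.2 ∈ G ∧
      Rel c T (p.1 : Matrix ι ι K) (p.2 : Matrix ι ι K) := by
    intro p hp
    induction hp using Subgroup.closure_induction'' with
    | mem q hq =>
      obtain ⟨a, rfl⟩ := hq
      exact ⟨hxG a, hx'G a, hrel a⟩
    | inv_mem q hq =>
      obtain ⟨a, rfl⟩ := hq
      obtain ⟨b, hb1, hb2⟩ := hinv a
      have : ((x a, x' a) : GL ι K × GL ι K)⁻¹ = (x b, x' b) := by
        rw [hb1, hb2]
        rfl
      rw [this]
      exact ⟨hxG b, hx'G b, hrel b⟩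
    | one =>
      refine ⟨G.one_mem, G.one_mem, ?_⟩
      exact rel_one hT
    | mul q q' _ _ ih ih' =>
      refine ⟨G.mul_mem ih.1 ih'.1, G.mul_mem ih.2.1 ih'.2.1, ?_⟩
      exact rel_mul hT hc ih.2.2 ih'.2.2
  -- Claim 2
  have claim2 : ∀ g ∈ G, ∃ g', (g, g') ∈ Γ := by
    intro g hg
    rw [hG] at hg
    induction hg using Subgroup.closure_induction with
    | mem y hy =>
      obtain ⟨a, rfl⟩ := hy
      exact ⟨x' a, hgen a⟩
    | one => exact ⟨1, Γ.one_mem⟩
    | mul y z _ _ ihy ihz =>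
      obtain ⟨y', hy'⟩ := ihy
      obtain ⟨z', hz'⟩ := ihz
      exact ⟨y' * z', Γ.mul_mem hy' hz'⟩
    | inv y _ ihy =>
      obtain ⟨y', hy'⟩ := ihy
      exact ⟨y'⁻¹, Γ.inv_mem hy'⟩
  have claim2' : ∀ g' ∈ G, ∃ g, (g, g') ∈ Γ := by
    intro g hg
    rw [hG] at hg
    induction hg using Subgroup.closure_induction with
    | mem y hy =>
      obtain ⟨a, rfl⟩ := hy
      obtain ⟨b, hb⟩ := hsurj a
      exact ⟨x b, hb ▸ hgen b⟩
    | one => exact ⟨1, Γ.one_mem⟩
    | mul y z _ _ ihy ihz =>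
      obtain ⟨y', hy'⟩ := ihy
      obtain ⟨z', hz'⟩ := ihz
      exact ⟨y' * z', Γ.mul_mem hy' hz'⟩
    | inv y _ ihy =>
      obtain ⟨y', hy'⟩ := ihy
      exact ⟨y'⁻¹, Γ.inv_mem hy'⟩
  -- Claim 3
  have claim3 : ∀ y, ((1 : GL ι K), y) ∈ Γ → y = 1 := by
    intro y hy
    obtain ⟨-, hyG, hr⟩ := claim1 _ hy
    exact hfaith y hyG (blk_eq_one_of_rel hT hr)
  -- the swap
  let Φ : GL ι K × GL ι K →* GL ι K × GL ι K :=
    MonoidHom.prod (MonoidHom.snd _ _) (Fr.comp (MonoidHom.fst _ _))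
  have hΦ : Γ ≤ Γ.comap Φ := by
    rw [Subgroup.closure_le]
    rintro _ ⟨a, rfl⟩
    obtain ⟨b, hb1, hb2⟩ := hfrob a
    show Φ (x a, x' a) ∈ Γ
    have : Φ (x a, x' a) = (x b, x' b) := by
      rw [hb1, hb2]
      rfl
    rw [this]
    exact hgen b
  have claim4 : ∀ g, (g, (1 : GL ι K)) ∈ Γ → g = 1 := by
    intro g hg
    have h1 : Φ (g, 1) ∈ Γ := hΦ hg
    have h2 : Fr g = 1 := claim3 _ h1
    apply hFr
    rw [h2, map_one]
  -- the two projections
  let π₁ : ↥Γ →* ↥G := ((MonoidHom.fst _ _).comp Γ.subtype).codRestrict G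
    (fun p => (claim1 p.1 p.2).1)
  let π₂ : ↥Γ →* ↥G := ((MonoidHom.snd _ _).comp Γ.subtype).codRestrict G
    (fun p => (claim1 p.1 p.2).2.1)
  have hπ₁ : ∀ p : ↥Γ, ((π₁ p : ↥G) : GL ι K) = p.1.1 := fun p => rfl
  have hπ₂ : ∀ p : ↥Γ, ((π₂ p : ↥G) : GL ι K) = p.1.2 := fun p => rfl
  have b₁ : Function.Bijective π₁ := by
    constructor
    · rw [injective_iff_map_eq_one]
      intro p hp
      have h1 : p.1.1 = 1 := by
        rw [← hπ₁, hp]
        rfl
      have h2 : p.1.2 = 1 := by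
        apply claim3
        have := p.2
        rw [← h1]
        exact this
      apply Subtype.ext
      exact Prod.ext h1 h2
    · intro g
      obtain ⟨g', hg'⟩ := claim2 g.1 g.2
      exact ⟨⟨(g.1, g'), hg'⟩, Subtype.ext rfl⟩
  have b₂ : Function.Bijective π₂ := by
    constructor
    · rw [injective_iff_map_eq_one]
      intro p hp
      have h2 : p.1.2 = 1 := by
        rw [← hπ₂, hp]
        rfl
      have h1 : p.1.1 = 1 := by
        apply claim4
        have := p.2
        rw [← h2]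
        exact this
      apply Subtype.ext
      exact Prod.ext h1 h2
    · intro g
      obtain ⟨g', hg'⟩ := claim2' g.1 g.2
      exact ⟨⟨(g', g.1), hg'⟩, Subtype.ext rfl⟩
  refine ⟨(MulEquiv.ofBijective π₁ b₁).symm.trans (MulEquiv.ofBijective π₂ b₂), ?_⟩
  intro a g hg
  have h1 : (MulEquiv.ofBijective π₁ b₁).symm g = ⟨(x a, x' a), hgen a⟩ := by
    rw [MulEquiv.symm_apply_eq]
    apply Subtype.ext
    rw [hg]
    rfl
  rw [MulEquiv.trans_apply, h1]
  rfl

end Cfsg.Agent.Lib.Helper19.GraphRel
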