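import Mathlib
import Cfsg.Agent.Lib.Helper19.GraphRel
import Cfsg.Agent.Lib.Helper18.XMat
import Cfsg.Agent.Lib.Helper18.Vec
import Cfsg.Agent.Lib.Helper36.ChevBC
import Cfsg.Agent.Lib.Helper36.ChevGen

set_option autoImplicit false
set_option linter.unusedSectionVars false
set_option linter.unusedVariables false

/-!
Exceptional graph automorphisms of Chevalley groups in characteristic `p` (types `G₂`, `p = 3`, and
`B₂`, `F₄`, `p = 2`).  In these characteristics the short root vectors span, with part of the Cartan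
subalgebra, a coordinate subspace `I` stable under the group, and the action on the quotient is the
action on `I` of the image under the graph automorphism.  The checks below are Boolean conditions on
the tables; `chev_exists_aut` turns them into the automorphism.
-/

namespace Cfsg.Agent.Lib.Helper19.GraphAut

open Cfsg Cfsg.Lie Matrix Cfsg.Agent.Lib.Helper18.Fast Cfsg.Agent.Lib.Helper18.XMat
  Cfsg.Agent.Lib.Helper19.BlockRel Cfsg.Agent.Lib.Helper36.ChevGen

/-- the data of an exceptional graph automorphism: the basis indices of the stable subspace, an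
involution of the basis indices exchanging it with a complement, the map on the roots and the
exponents -/
structure GData where
  inI : ℕ → Bool
  sw : ℕ → ℕ
  bar : ℕ → ℕ
  lam : ℕ → ℕ

/-- the nonzero terms modulo `p` of a sparse polynomial -/
def red (p : ℕ) (l : List (ℕ × ℕ × ℤ)) : List (ℕ × ℤ) :=
  (l.filter (fun e => e.2.2 % (p : ℤ) ≠ 0)).map (fun e => (e.2.1, e.2.2 % (p : ℤ)))

/-- substitution of `t ^ m` in a sparse polynomial -/
def scl (m : ℕ) (l : List (ℕ × ℤ)) : List (ℕ × ℤ) := l.map (fun e => (m * e.1, e.2))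

/-- the entry `(k, c)` of `x_r(t)` as a sparse polynomial -/
def ent (A : FData) (r k c : ℕ) : List (ℕ × ℕ × ℤ) := (A.xcol r c).filter (fun e => e.1 = k)

/-- the subspace is stable under `x_r(t)` -/
def chkInv (A : FData) (G : GData) (p : ℕ) (r : ℕ) : Bool :=
  (List.range (A.n + A.rank)).all fun k => (List.range (A.n + A.rank)).all fun c =>
    G.inI k || !G.inI c || decide (red p (ent A r k c) = [])

/-- the block of `x_r(t)` on the quotient is the block of `x_{r̄}(t ^ λ)` on the subspace -/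
def chkRel (A : FData) (G : GData) (p : ℕ) (r : ℕ) : Bool :=
  (List.range (A.n + A.rank)).all fun k => (List.range (A.n + A.rank)).all fun c =>
    !G.inI k || !G.inI c ||
      decide (red p (ent A r (G.sw k) (G.sw c)) = scl (G.lam r) (red p (ent A (G.bar r) k c)))

/-- `sw` is an involution exchanging the two halves -/
def chkSw (A : FData) (G : GData) : Bool :=
  (List.range (A.n + A.rank)).all fun k =>
    decide (G.sw k < A.n + A.rank) && decide (G.sw (G.sw k) = k) && (G.inI (G.sw k) != G.inI k)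

/-- `bar` is an involution of the roots and the two exponents multiply to `p` -/
def chkBar (A : FData) (G : GData) (p : ℕ) : Bool :=
  (List.range A.n).all fun r =>
    decide (G.bar r < A.n) && decide (G.bar (G.bar r) = r) && decide (G.lam r * G.lam (G.bar r) = p)

section Eval

variable {K : Type*} [Field K]

/-- value of a sparse polynomial -/
def evr (t : K) (l : List (ℕ × ℤ)) : K := (l.map (fun e => ((e.2 : ℤ) : K) * t ^ e.1)).sum

theorem ev_eq_evr (p : ℕ) [CharP K p] (t : K) (l : List (ℕ × ℕ × ℤ)) :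
    (l.map (fun e => ((e.2.2 : ℤ) : K) * t ^ e.2.1)).sum = evr t (red p l) := by
  induction l with
  | nil => simp [evr, red]
  | cons a l ih =>
    rw [List.map_cons, List.sum_cons, ih]
    unfold red
    by_cases h : a.2.2 % (p : ℤ) = 0
    · have h0 : ((a.2.2 : ℤ) : K) = 0 := by
        rw [CharP.intCast_eq_zero_iff K p]
        exact Int.dvd_of_emod_eq_zero h
      rw [List.filter_cons_of_neg (by simpa using h), h0, zero_mul, zero_add]
    · rw [List.filter_cons_of_pos (by simpa using h), List.map_cons]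
      unfold evr
      rw [List.map_cons, List.sum_cons]
      congr 2
      rw [eq_comm, ← sub_eq_zero, ← Int.cast_sub, CharP.intCast_eq_zero_iff K p]
      exact Int.dvd_sub_self_of_emod_eq rfl

theorem evr_scl (m : ℕ) (t : K) (l : List (ℕ × ℤ)) : evr t (scl m l) = evr (t ^ m) l := by
  unfold evr scl
  rw [List.map_map]
  congr 1
  apply List.map_congr_left
  intro e _
  simp only [Function.comp_apply]
  rw [pow_mul]

end Eval

section Idx

variable (G : GData) (D : ChevalleyDatum)

/-- the two halves of the basis -/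
def cI (i : D.Idx) : Bool := G.inI (enc D i)

/-- decoding of the basis indices -/
def dec (k : ℕ) (d : D.Idx) : D.Idx :=
  if h : k < D.nroots then Sum.inr ⟨k, h⟩
  else if h' : k - D.nroots < D.rank then Sum.inl ⟨k - D.nroots, h'⟩ else d

theorem enc_dec {k : ℕ} (hk : k < D.nroots + D.rank) (d : D.Idx) : enc D (dec D k d) = k := by
  unfold dec
  split_ifs with h h'
  · rfl
  · simp only [enc]
    omega
  · omega

/-- the involution of the basis -/
def TI (i : D.Idx) : D.Idx := dec D (G.sw (enc D i)) i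

variable {G D} {A : FData}

theorem sw_facts (hA : Agrees A D) (hsw : chkSw A G = true) (i : D.Idx) :
    G.sw (enc D i) < D.nroots + D.rank ∧ G.sw (G.sw (enc D i)) = enc D i ∧
      G.inI (G.sw (enc D i)) = !G.inI (enc D i) := by
  have hlt := Cfsg.Agent.Lib.Helper18.Vec.enc_lt hA i
  unfold chkSw at hsw
  rw [List.all_eq_true] at hsw
  have h := hsw (enc D i) (List.mem_range.mpr hlt)
  simp only [Bool.and_eq_true, decide_eq_true_eq, bne_iff_ne, ne_eq] at h
  refine ⟨by rw [hA.n_eq, hA.rank_eq]; exact h.1.1, h.1.2, ?_⟩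
  cases h1 : G.inI (G.sw (enc D i)) <;> cases h2 : G.inI (enc D i) <;> simp_all

theorem enc_TI (hA : Agrees A D) (hsw : chkSw A G = true) (i : D.Idx) :
    enc D (TI G D i) = G.sw (enc D i) :=
  enc_dec D (sw_facts hA hsw i).1 i

theorem TI_TI (hA : Agrees A D) (hsw : chkSw A G = true) (i : D.Idx) :
    TI G D (TI G D i) = i := by
  apply enc_injective D
  rw [enc_TI hA hsw, enc_TI hA hsw, (sw_facts hA hsw i).2.1]

theorem cI_TI (hA : Agrees A D) (hsw : chkSw A G = true) (i : D.Idx) :
    cI G D (TI G D i) = !cI G D i := by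
  unfold cI
  rw [enc_TI hA hsw, (sw_facts hA hsw i).2.2]

end Idx

section Gen

variable {K : Type*} [Field K] {G : GData} {D : ChevalleyDatum} {A : FData}

theorem inv_x (hA : Agrees A D) (p : ℕ) [CharP K p] {r : ℕ} (hr : r < A.n)
    (hI : chkInv A G p r = true) (t : K) : Inv (cI G D) (D.x K r t) := by
  intro i j hi hj
  have hrD : r < D.nroots := hA.n_eq ▸ hr
  rw [x_lt D r hrD, xMat_apply_aux hA ⟨r, hrD⟩ t i j _ _ rfl rfl, ev_eq_evr p]
  unfold chkInv at hI
  rw [List.all_eq_true] at hI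
  have h1 := hI (enc D i) (List.mem_range.mpr (Cfsg.Agent.Lib.Helper18.Vec.enc_lt hA i))
  rw [List.all_eq_true] at h1
  have h2 := h1 (enc D j) (List.mem_range.mpr (Cfsg.Agent.Lib.Helper18.Vec.enc_lt hA j))
  unfold cI at hi hj
  simp only [hi, hj, Bool.false_or, Bool.not_true, decide_eq_true_eq] at h2
  unfold ent at h2
  rw [h2]
  rfl

theorem rel_x (hA : Agrees A D) (p : ℕ) [CharP K p] (hsw : chkSw A G = true)
    (hbar : chkBar A G p = true) (hI : ∀ r < A.n, chkInv A G p r = true) {r : ℕ} (hr : r < A.n)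
    (hR : chkRel A G p r = true) (t : K) :
    Rel (cI G D) (TI G D) (D.x K r t) (D.x K (G.bar r) (t ^ G.lam r)) := by
  have hbr : G.bar r < A.n := by
    unfold chkBar at hbar
    rw [List.all_eq_true] at hbar
    have := hbar r (List.mem_range.mpr hr)
    simp only [Bool.and_eq_true, decide_eq_true_eq] at this
    exact this.1.1
  refine ⟨inv_x hA p hr (hI r hr) t, inv_x hA p hbr (hI _ hbr) _, ?_⟩
  intro i j hi hj
  have hrD : r < D.nroots := hA.n_eq ▸ hr
  have hbrD : G.bar r < D.nroots := hA.n_eq ▸ hbr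
  rw [x_lt D r hrD, x_lt D _ hbrD,
    xMat_apply_aux hA ⟨r, hrD⟩ t (TI G D i) (TI G D j) _ _ (enc_TI hA hsw i) (enc_TI hA hsw j),
    xMat_apply_aux hA ⟨G.bar r, hbrD⟩ (t ^ G.lam r) i j _ _ rfl rfl, ev_eq_evr p, ev_eq_evr p]
  unfold chkRel at hR
  rw [List.all_eq_true] at hR
  have h1 := hR (enc D i) (List.mem_range.mpr (Cfsg.Agent.Lib.Helper18.Vec.enc_lt hA i))
  rw [List.all_eq_true] at h1
  have h2 := h1 (enc D j) (List.mem_range.mpr (Cfsg.Agent.Lib.Helper18.Vec.enc_lt hA j))
  unfold cI at hi hj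
  simp only [hi, hj, Bool.not_true, Bool.false_or, decide_eq_true_eq] at h2
  unfold ent at h2
  rw [h2, evr_scl]

end Gen

section Main

variable {K : Type*} [Field K] {G : GData} {D : ChevalleyDatum} {A : FData}

theorem bar_facts {p : ℕ} (hbar : chkBar A G p = true) {r : ℕ} (hr : r < A.n) :
    G.bar r < A.n ∧ G.bar (G.bar r) = r ∧ G.lam r * G.lam (G.bar r) = p := by
  unfold chkBar at hbar
  rw [List.all_eq_true] at hbar
  have := hbar r (List.mem_range.mpr hr)
  simp only [Bool.and_eq_true, decide_eq_true_eq] at this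
  exact ⟨this.1.1, this.1.2, this.2⟩

theorem group_eq (hinvx : ∀ (r : ℕ) (t : K), D.x K r t * D.x K r (-t) = 1) :
    D.group K = Subgroup.closure
      (Set.range (fun a : Fin D.nroots × K => xU D hinvx a.1.val a.2)) := by
  unfold ChevalleyDatum.group
  congr 1
  ext g
  constructor
  · rintro ⟨r, t, h⟩
    refine ⟨(r, t), ?_⟩
    apply Units.ext
    rw [xU_val, x_lt D r.val r.isLt, h]
  · rintro ⟨a, rfl⟩
    exact ⟨a.1, a.2, by rw [xU_val, x_lt D a.1.val a.1.isLt]⟩

/-- the subspace is stable under the Chevalley group -/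
theorem chev_inv (hA : Agrees A D) (p : ℕ) [CharP K p]
    (hinvx : ∀ (r : ℕ) (t : K), D.x K r t * D.x K r (-t) = 1)
    (hI : ∀ r < A.n, chkInv A G p r = true) :
    ∀ g ∈ D.group K, Inv (cI G D) ((g : GL D.Idx K) : Matrix D.Idx D.Idx K) := by
  rw [group_eq hinvx]
  apply Cfsg.Agent.Lib.Helper19.GraphRel.inv_of_closure
  · intro a
    exact inv_x hA p (hA.n_eq ▸ a.1.isLt) (hI _ (hA.n_eq ▸ a.1.isLt)) a.2
  · intro a
    refine ⟨(a.1, -a.2), ?_⟩
    apply Units.ext
    rfl

/-- the exceptional graph automorphism from the checks on the tables -/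
theorem chev_exists_aut (hA : Agrees A D) (p : ℕ) [Fact p.Prime] [CharP K p]
    (hinvx : ∀ (r : ℕ) (t : K), D.x K r t * D.x K r (-t) = 1)
    (hsw : chkSw A G = true) (hbar : chkBar A G p = true)
    (hI : ∀ r < A.n, chkInv A G p r = true) (hR : ∀ r < A.n, chkRel A G p r = true)
    (hroot : ∀ u : K, ∃ t : K, t ^ p = u)
    (hneg : ∀ r < A.n, ∀ t : K, (-t) ^ G.lam r = -(t ^ G.lam r))
    (hfaith : ∀ g ∈ D.group K,
      blk (cI G D) ((g : GL D.Idx K) : Matrix D.Idx D.Idx K) = 1 → g = 1) :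
    ∃ α : ↥(D.group K) ≃* ↥(D.group K), ∀ (g : ↥(D.group K)) (r : ℕ) (t : K), r < D.nroots →
      ((g : GL D.Idx K) : Matrix D.Idx D.Idx K) = D.x K r t →
      (((α g : ↥(D.group K)) : GL D.Idx K) : Matrix D.Idx D.Idx K) =
        D.x K (G.bar r) (t ^ G.lam r) := by
  have hn := hA.n_eq
  let x : Fin D.nroots × K → GL D.Idx K := fun a => xU D hinvx a.1.val a.2
  let x' : Fin D.nroots × K → GL D.Idx K :=
    fun a => xU D hinvx (G.bar a.1.val) (a.2 ^ G.lam a.1.val)
  have hbf : ∀ r < D.nroots,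
      G.bar r < D.nroots ∧ G.bar (G.bar r) = r ∧ G.lam r * G.lam (G.bar r) = p := by
    intro r hr
    have := bar_facts hbar (hn ▸ hr)
    exact ⟨hn ▸ this.1, this.2.1, this.2.2⟩
  have hrel : ∀ a, Rel (cI G D) (TI G D) ((x a : GL D.Idx K) : Matrix D.Idx D.Idx K)
      ((x' a : GL D.Idx K) : Matrix D.Idx D.Idx K) := by
    intro a
    exact rel_x hA p hsw hbar hI (hn ▸ a.1.isLt) (hR _ (hn ▸ a.1.isLt)) a.2
  have hinv : ∀ a, ∃ b, x b = (x a)⁻¹ ∧ x' b = (x' a)⁻¹ := by
    intro a
    refine ⟨(a.1, -a.2), ?_, ?_⟩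
    · apply Units.ext
      rfl
    · apply Units.ext
      show D.x K (G.bar a.1.val) ((-a.2) ^ G.lam a.1.val) =
        D.x K (G.bar a.1.val) (-(a.2 ^ G.lam a.1.val))
      rw [hneg _ (hn ▸ a.1.isLt)]
  have hsurj : ∀ a, ∃ b, x' b = x a := by
    intro a
    obtain ⟨h1, h2, h3⟩ := hbf a.1.val a.1.isLt
    have hl : G.lam (G.bar a.1.val) = 1 ∨ G.lam (G.bar a.1.val) = p := by
      have hd : G.lam (G.bar a.1.val) ∣ p := Dvd.intro_left _ h3
      exact (Nat.dvd_prime Fact.out).mp hd
    have hu : ∃ u : K, u ^ G.lam (G.bar a.1.val) = a.2 := by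
      rcases hl with hl | hl
      · exact ⟨a.2, by rw [hl, pow_one]⟩
      · rw [hl]
        exact hroot a.2
    obtain ⟨u, hu⟩ := hu
    refine ⟨(⟨G.bar a.1.val, h1⟩, u), ?_⟩
    apply Units.ext
    show D.x K (G.bar (G.bar a.1.val)) (u ^ G.lam (G.bar a.1.val)) = D.x K a.1.val a.2
    rw [h2, hu]
  have hfrob : ∀ a, ∃ b, x b = x' a ∧
      x' b = Matrix.GeneralLinearGroup.map (frobenius K p) (x a) := by
    intro a
    obtain ⟨h1, h2, h3⟩ := hbf a.1.val a.1.isLt
    refine ⟨(⟨G.bar a.1.val, h1⟩, a.2 ^ G.lam a.1.val), rfl, ?_⟩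
    apply Units.ext
    show D.x K (G.bar (G.bar a.1.val)) ((a.2 ^ G.lam a.1.val) ^ G.lam (G.bar a.1.val)) =
      (D.x K a.1.val a.2).map (frobenius K p)
    rw [h2, ← pow_mul, h3, Cfsg.Agent.Lib.Helper36.ChevBC.x_map, frobenius_def]
  obtain ⟨α, hα⟩ := Cfsg.Agent.Lib.Helper19.GraphRel.exists_aut (c := cI G D) (T := TI G D)
    (TI_TI hA hsw) (cI_TI hA hsw) x x' (D.group K) (group_eq hinvx) hfaith hrel hinv hsurj
    (Matrix.GeneralLinearGroup.map (frobenius K p))
    (Cfsg.Agent.Lib.Helper36.ChevBC.glMap_injective (frobenius K p) D) hfrob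
  refine ⟨α, ?_⟩
  intro g r t hr hg
  have h := hα (⟨r, hr⟩, t) g (Units.ext (by rw [hg]; rfl))
  rw [h]
  rfl

end Main

end Cfsg.Agent.Lib.Helper19.GraphAut
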