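import Cfsg.Agent.Lib.Helper19.GraphAut
import Cfsg.Agent.Lib.Helper18.FTabG2

set_option autoImplicit false

/-!
The data of the exceptional graph automorphism of `G₂` in characteristic 3 and its checks.
-/

namespace Cfsg.Agent.Lib.Helper19.GraphAutG2

open Cfsg Cfsg.Lie Cfsg.Agent.Lib.Helper18.Fast Cfsg.Agent.Lib.Helper19.GraphAut
  Cfsg.Agent.Lib.Helper18

/-- short root vectors and the first fundamental coroot span the stable subspace -/
def gd : GData where
  inI := fun k => [false, false, true, true, true, false, false, true, true, true, false, false,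
    true, false].getD k false
  sw := fun k => [2, 3, 0, 1, 5, 4, 7, 6, 10, 11, 8, 9, 13, 12].getD k 0
  bar := fun r => [2, 3, 0, 1, 5, 4, 7, 6, 10, 11, 8, 9].getD r 0
  lam := fun r => [1, 1, 3, 3, 3, 1, 1, 3, 3, 3, 1, 1].getD r 1

theorem agrees : Agrees FTabG2.fd chevG2 := FTabG2.fd_eq ▸ TabG2.agrees

theorem hsw : chkSw FTabG2.fd gd = true := by decide +kernel

theorem hbar : chkBar FTabG2.fd gd 3 = true := by decide +kernel

theorem hI_all : (List.range 12).all (fun r => chkInv FTabG2.fd gd 3 r) = true := by
  decide +kernel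

theorem hR_all : (List.range 12).all (fun r => chkRel FTabG2.fd gd 3 r) = true := by
  decide +kernel

theorem hI : ∀ r < FTabG2.fd.n, chkInv FTabG2.fd gd 3 r = true := by
  intro r hr
  have := hI_all
  rw [List.all_eq_true] at this
  exact this r (List.mem_range.mpr hr)

theorem hR : ∀ r < FTabG2.fd.n, chkRel FTabG2.fd gd 3 r = true := by
  intro r hr
  have := hR_all
  rw [List.all_eq_true] at this
  exact this r (List.mem_range.mpr hr)

theorem ent_7_4 : ent FTabG2.fd 7 7 4 = [(7, 2, -1)] := by decide +kernel

end Cfsg.Agent.Lib.Helper19.GraphAutG2
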