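import Mathlib
import Cfsg.Agent.Lib.Helper54.S72Stmt

set_option autoImplicit false

/-!
Piece TSYL of the call S1372 (helper54): in a nilpotent subgroup `S` normalized by `M`, an
element of prime order `t` lies in the Sylow `t`-subgroup of `S`, whose image is normalized by
`M` (it is the set of `t`-elements of `S`).
-/

namespace Cfsg.Agent.Lib.Helper19.S72TSYL

open Cfsg.Agent.Lib.Helper54.S72Stmt

universe u

theorem main : TSyl.{u} := by
  intro G _ _ M S hSM hMS hnil t _ x hx hxt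
  have hnorm : ∀ P : Sylow t ↥S, (P : Subgroup ↥S).Normal := fun P => inferInstance
  have hz : IsPGroup t (Subgroup.zpowers (⟨x, hx⟩ : ↥S)) := by
    apply IsPGroup.of_card (n := 1)
    rw [Nat.card_zpowers, pow_one, Subgroup.orderOf_mk, hxt]
  obtain ⟨T₀, hT₀⟩ := hz.exists_le_sylow
  have hxT : (⟨x, hx⟩ : ↥S) ∈ (T₀ : Subgroup ↥S) := hT₀ (Subgroup.mem_zpowers _)
  -- the Sylow subgroup is the set of `t`-elements
  have hchar : ∀ s : ↥S, s ∈ (T₀ : Subgroup ↥S) ↔ ∃ k : ℕ, orderOf (s : G) = t ^ k := by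
    intro s
    constructor
    · intro hs
      obtain ⟨k, hk⟩ := (IsPGroup.iff_orderOf.mp T₀.isPGroup') ⟨s, hs⟩
      refine ⟨k, ?_⟩
      have e1 : orderOf (⟨s, hs⟩ : ↥(T₀ : Subgroup ↥S)) = orderOf s := Subgroup.orderOf_mk s hs
      have e2 : orderOf (s : G) = orderOf s := Subgroup.orderOf_coe s
      rw [e2, ← e1, hk]
    · rintro ⟨k, hk⟩
      have hzs : IsPGroup t (Subgroup.zpowers s) := by
        apply IsPGroup.of_card (n := k)
        rw [Nat.card_zpowers, ← hk, Subgroup.orderOf_coe]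
      obtain ⟨Q, hQ⟩ := hzs.exists_le_sylow
      have hu := Sylow.unique_of_normal T₀ (hnorm T₀)
      have hQT : Q = T₀ := Subsingleton.elim _ _
      rw [← hQT]
      exact hQ (Subgroup.mem_zpowers s)
  refine ⟨T₀, ⟨⟨x, hx⟩, hxT, rfl⟩, ?_⟩
  -- conjugation by an element of `M` maps the image of the Sylow subgroup into itself
  have hconj : ∀ m ∈ M, ∀ y ∈ (T₀ : Subgroup ↥S).map S.subtype,
      m * y * m⁻¹ ∈ (T₀ : Subgroup ↥S).map S.subtype := by
    intro m hm y hy
    obtain ⟨s, hs, rfl⟩ := hy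
    have hmS : m * (s : G) * m⁻¹ ∈ S :=
      (Subgroup.mem_set_normalizer_iff.mp (hMS hm) (s : G)).mp s.2
    obtain ⟨k, hk⟩ := (hchar s).mp hs
    refine ⟨⟨m * (s : G) * m⁻¹, hmS⟩, (hchar _).mpr ⟨k, ?_⟩, rfl⟩
    rw [← hk]
    have hsc : SemiconjBy m (s : G) (m * (s : G) * m⁻¹) := by
      unfold SemiconjBy
      group
    exact (hsc.orderOf_eq m).symm
  intro m hm
  rw [Subgroup.mem_set_normalizer_iff]
  intro y
  constructor
  · exact hconj m hm y
  · intro hy
    have h1 := hconj m⁻¹ (M.inv_mem hm) _ hy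
    have e : m⁻¹ * (m * y * m⁻¹) * m⁻¹⁻¹ = y := by group
    rwa [e] at h1

end Cfsg.Agent.Lib.Helper19.S72TSYL
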