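import Mathlib
import Cfsg.Agent.Lib.Helper18.Core
import Cfsg.Agent.Lib.Helper18.HOrder

/-!
The normal core of `B ⊓ G¹` in a subgroup `G¹` of a Chevalley group that contains a representative
of the longest element of the Weyl group and, for each fundamental root, an element of `U` with a
non-zero entry in the column of the negative of that root and a row of the Cartan part.
-/

set_option autoImplicit false
set_option linter.unusedSimpArgs false

namespace Cfsg.Agent.Lib.Helper19.TwCore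

open Cfsg Cfsg.Lie Cfsg.Agent.Lib.Helper18.Fast Cfsg.Agent.Lib.Helper18.Grade
  Cfsg.Agent.Lib.Helper18.Facts Cfsg.Agent.Lib.Helper18.AllRoots Cfsg.Agent.Lib.Helper18.Loop
  Cfsg.Agent.Lib.Helper18.Weyl Cfsg.Agent.Lib.Helper18.RootSys Cfsg.Agent.Lib.Helper18.Orbit
  Cfsg.Agent.Lib.Helper18.Units Cfsg.Agent.Lib.Helper18.Sub Cfsg.Agent.Lib.Helper18.Norm
  Cfsg.Agent.Lib.Helper18.HAll Cfsg.Agent.Lib.Helper18.Torus Cfsg.Agent.Lib.Helper18.Pos
  Cfsg.Agent.Lib.Helper18.WGroup Cfsg.Agent.Lib.Helper18.BNChev Cfsg.Agent.Lib.Helper18.Mono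
  Cfsg.Agent.Lib.Helper18.BNPairC Cfsg.Agent.Lib.Helper18.Long Cfsg.Agent.Lib.Helper18.HOrder
  Cfsg.Agent.Lib.Helper18.XMat

variable {A : FData} {D : ChevalleyDatum} {F : Type*} [Field F] {X : WD} {m : ℕ → ℕ → ℤ}
  {w : ℕ → ℤ}

/-- A unit whose matrix is the matrix of a word in root elements of roots with the property `Pr`
lies in the subgroup generated by these root elements. -/
theorem word_mem_closure (hF : AFacts A D) (Pr : ℕ → Prop) (hP : ∀ r, Pr r → r < D.nroots) :
    ∀ (wd : List (ℕ × F)) (g : GL D.Idx F), (∀ p ∈ wd, Pr p.1) →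
      (g : Matrix D.Idx D.Idx F) = D.wordMat F wd →
      g ∈ Subgroup.closure {g : GL D.Idx F | ∃ (r : ℕ) (t : F), Pr r ∧
        (g : Matrix D.Idx D.Idx F) = D.x F r t} := by
  intro wd
  induction wd with
  | nil =>
    intro g _ hg
    have : g = 1 := Units.ext (by rw [hg, Cfsg.Agent.Lib.Helper18.Sub.wordMat_nil]; rfl)
    rw [this]
    exact Subgroup.one_mem _
  | cons p l ih =>
    intro g hp hg
    have hp1 := hp p List.mem_cons_self
    have hr := hP _ hp1
    rw [Cfsg.Agent.Lib.Helper18.Sub.wordMat_cons] at hg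
    have hl : ∀ q ∈ l, q.1 < D.nroots := fun q hq => hP _ (hp q (List.mem_cons_of_mem _ hq))
    have e : g = xU hF F p.1 hr p.2 * (isUnit_wordMat hF l hl).unit := by
      apply Units.ext
      rw [Units.val_mul, coe_xU, hg]
      rfl
    rw [e]
    apply Subgroup.mul_mem
    · exact Subgroup.subset_closure ⟨p.1, p.2, hp1, coe_xU hF _ _ _⟩
    · exact ih _ (fun q hq => hp q (List.mem_cons_of_mem _ hq)) rfl

theorem isUnit_x' (hF : AFacts A D) (r : ℕ) (t : F) : IsUnit (D.x F r t) := by
  by_cases hr : r < D.nroots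
  · exact isUnit_x hF hr t
  · unfold ChevalleyDatum.x
    rw [dif_neg hr]
    exact isUnit_one

theorem isUnit_wordMat' (hF : AFacts A D) (wd : List (ℕ × F)) : IsUnit (D.wordMat F wd) := by
  induction wd with
  | nil =>
    rw [Cfsg.Agent.Lib.Helper18.Sub.wordMat_nil]
    exact isUnit_one
  | cons p l ih =>
    rw [Cfsg.Agent.Lib.Helper18.Sub.wordMat_cons]
    exact (isUnit_x' hF p.1 p.2).mul ih

/-- A unit whose matrix is a product of matrices of words of a set `S` lies in the subgroup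
generated by `S`. -/
theorem mem_gen_of_words (hF : AFacts A D) (S : Set (List (ℕ × F))) :
    ∀ (ws : List (List (ℕ × F))) (g : GL D.Idx F), (∀ wd ∈ ws, wd ∈ S) →
      (g : Matrix D.Idx D.Idx F) = (ws.map (D.wordMat F)).prod → g ∈ D.genSubgroup F S := by
  intro ws
  induction ws with
  | nil =>
    intro g _ hg
    have : g = 1 := Units.ext (by rw [hg]; rfl)
    rw [this]
    exact Subgroup.one_mem _
  | cons wd l ih =>
    intro g hws hg
    have h1 := hws wd List.mem_cons_self
    rw [List.map_cons, List.prod_cons] at hg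
    have hu := isUnit_wordMat' hF wd
    have e : g = hu.unit * (hu.unit⁻¹ * g) := by group
    rw [e]
    apply Subgroup.mul_mem
    · exact Subgroup.subset_closure ⟨wd, h1, rfl⟩
    · apply ih _ (fun wd' hwd' => hws wd' (List.mem_cons_of_mem _ hwd'))
      rw [Units.val_mul, hg, ← mul_assoc]
      have : ((hu.unit⁻¹ : GL D.Idx F) : Matrix D.Idx D.Idx F) * D.wordMat F wd = 1 := by
        have h2 : ((hu.unit⁻¹ * hu.unit : GL D.Idx F) : Matrix D.Idx D.Idx F) = 1 := by
          rw [inv_mul_cancel]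
          rfl
        exact h2
      rw [this, one_mul]

/-- The word of the `n_{p_i}(1)` along a word in the fundamental reflections. -/
def nwWord (D : ChevalleyDatum) (F : Type*) [Field F] : List ℕ → List (ℕ × F)
  | [] => []
  | i :: l => D.nWord (D.simple i) (1 : F) ++ nwWord D F l

theorem coe_nw_plain (hF : AFacts A D) : ∀ (wd : List ℕ), (∀ i ∈ wd, i < A.rank) →
    ((nw hF F (plain wd) : GL D.Idx F) : Matrix D.Idx D.Idx F) = D.wordMat F (nwWord D F wd) := by
  intro wd
  induction wd with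
  | nil =>
    intro _
    rw [nwWord, Cfsg.Agent.Lib.Helper18.Sub.wordMat_nil]
    rfl
  | cons i l ih =>
    intro h
    have hi := h i List.mem_cons_self
    have hi' : i < D.rank := by rw [hF.agrees.rank_eq]; exact hi
    have e : nw hF F (plain (i :: l)) = ng hF F i * nw hF F (plain l) := by
      show (if ((i, false) : ℕ × Bool).2 = true then (ng hF F i)⁻¹ else ng hF F i) *
        nw hF F (plain l) = _
      rw [if_neg (by simp)]
    rw [e, Units.val_mul, coe_ng hF hi, ih (fun j hj => h j (List.mem_cons_of_mem _ hj)), nwWord,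
      Cfsg.Agent.Lib.Helper18.Sub.wordMat_append, simple_eq_fast hF hi']
    rfl

/-- The characteristic of a finite field whose order is a power of the prime `p`. -/
theorem natCast_eq_zero_of_card {K : Type*} [Field K] [Fintype K] {p n : ℕ} (hp : p.Prime)
    (h : Fintype.card K = p ^ n) : ((p : ℕ) : K) = 0 := by
  obtain ⟨p', hp'⟩ := CharP.exists K
  obtain ⟨k, hpr, hk⟩ := FiniteField.card K p'
  have h1 : p' ∣ p ^ n := by
    rw [← h, hk]
    exact dvd_pow_self _ k.ne_zero
  have h2 := (Nat.prime_dvd_prime_iff_eq hpr hp).mp (hpr.dvd_of_dvd_pow h1)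
  subst h2
  exact CharP.cast_eq_zero K p'

/-- `(-1)^q = -1` in a finite field whose order is a power of `q`. -/
theorem neg_one_pow_of_card {K : Type*} [Field K] [Fintype K] {q n : ℕ} (hn : n ≠ 0)
    (h : Fintype.card K = q ^ n) : (-1 : K) ^ q = -1 := by
  rcases Nat.even_or_odd q with he | ho
  · obtain ⟨p', hp'⟩ := CharP.exists K
    obtain ⟨k, hpr, hk⟩ := FiniteField.card K p'
    have h1 : 2 ∣ p' ^ (k : ℕ) := by
      rw [← hk, h]
      exact dvd_pow he.two_dvd hn
    have h2 := (Nat.prime_dvd_prime_iff_eq Nat.prime_two hpr).mp (Nat.prime_two.dvd_of_dvd_pow h1)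
    subst h2
    have h3 : ((2 : ℕ) : K) = 0 := CharP.cast_eq_zero K 2
    have h4 : (-1 : K) = 1 := by
      have : (2 : K) = 0 := by exact_mod_cast h3
      linear_combination -this
    rw [h4, one_pow]
  · exact ho.neg_one_pow

section

variable (hC : CFacts A D X m w)

include hC in
/-- The normal core of `B ⊓ G¹` in `G¹` is trivial. -/
theorem tw_core {P P' Q Q' : ℕ → ℕ → ℤ} {d : ℕ → ℕ} {mm : ℕ → ℕ → ℤ}
    (hd : HOK A P P' Q Q' d mm) (G1 : Subgroup (GL D.Idx F)) (n0 : GL D.Idx F) (hn0 : n0 ∈ G1)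
    (hconj : ∀ b ∈ D.borelSubgroup F, n0 * b * n0⁻¹ ∈ D.negUnipotent F ⊔ D.diagonalSubgroup F)
    (htest : ∀ j : Fin A.rank, ∃ s ∈ G1, s ∈ D.posUnipotent F ∧
      ∃ (i : Fin D.rank) (b : Fin D.nroots), b.val = D.neg (A.simple j) ∧
        (s : Matrix D.Idx D.Idx F) (Sum.inl i) (Sum.inr b) ≠ 0) :
    ((D.borelSubgroup F ⊓ G1).subgroupOf G1).normalCore = ⊥ := by
  rw [eq_bot_iff]
  intro k hk
  have hkB : ∀ g ∈ G1, g * (k : GL D.Idx F) * g⁻¹ ∈ D.borelSubgroup F := by
    intro g hg
    have := hk ⟨g, hg⟩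
    rw [Subgroup.mem_subgroupOf] at this
    exact this.1
  have hkH : ∀ g ∈ G1, g * (k : GL D.Idx F) * g⁻¹ ∈ D.diagonalSubgroup F := by
    intro g hg
    have h1 := hkB g hg
    have h2 := hkB (n0⁻¹ * g) (Subgroup.mul_mem _ (Subgroup.inv_mem _ hn0) hg)
    have h3 := hconj _ h2
    have e : n0 * (n0⁻¹ * g * (k : GL D.Idx F) * (n0⁻¹ * g)⁻¹) * n0⁻¹ =
        g * (k : GL D.Idx F) * g⁻¹ := by group
    rw [e] at h3
    have h4 : g * (k : GL D.Idx F) * g⁻¹ ∈
        D.borelSubgroup F ⊓ (D.negUnipotent F ⊔ D.diagonalSubgroup F) := ⟨h1, h3⟩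
    rwa [borel_inf_negUnipotent_sup hC.af hC.pw] at h4
  have hk1 : (k : GL D.Idx F) ∈ D.diagonalSubgroup F := by
    have := hkH 1 (Subgroup.one_mem _)
    simpa using this
  obtain ⟨c, hc, e⟩ := exists_tor_of_mem hC.af _ hk1
  have hsimple : ∀ j : Fin A.rank, chi A c (A.simple j) = 1 := by
    intro j
    obtain ⟨s, hs1, hsU, i, b, hb, hne⟩ := htest j
    have hj : A.simple j < A.n := hC.af.sfacts.simple_lt j.val j.isLt
    have hj' : A.simple j < D.nroots := lt_nroots hC.af hj
    have h1 := hkH s hs1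
    have h2 : s * (k : GL D.Idx F) * s⁻¹ * (k : GL D.Idx F)⁻¹ ∈ D.diagonalSubgroup F :=
      Subgroup.mul_mem _ h1 (Subgroup.inv_mem _ hk1)
    have h3 : s * (k : GL D.Idx F) * s⁻¹ * (k : GL D.Idx F)⁻¹ ∈ D.posUnipotent F := by
      have hn := (Subgroup.mem_set_normalizer_iff.mp (diag_le_normalizer_pos hC.af hk1) s⁻¹).mp
        (Subgroup.inv_mem _ hsU)
      have e3 : s * (k : GL D.Idx F) * s⁻¹ * (k : GL D.Idx F)⁻¹ =
          s * ((k : GL D.Idx F) * s⁻¹ * (k : GL D.Idx F)⁻¹) := by group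
      rw [e3]
      exact Subgroup.mul_mem _ hsU hn
    have h4 : s * (k : GL D.Idx F) * s⁻¹ * (k : GL D.Idx F)⁻¹ = 1 := by
      have : s * (k : GL D.Idx F) * s⁻¹ * (k : GL D.Idx F)⁻¹ ∈
          D.posUnipotent F ⊓ D.diagonalSubgroup F := ⟨h3, h2⟩
      rwa [posUnipotent_inf_diagonal hC.af hC.pw, Subgroup.mem_bot] at this
    have h5 : s * (k : GL D.Idx F) = (k : GL D.Idx F) * s := by
      have h6 := mul_inv_eq_one.mp h4
      exact mul_inv_eq_iff_eq_mul.mp h6
    have h6 := congrArg (fun g : GL D.Idx F =>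
      (g : Matrix D.Idx D.Idx F) (Sum.inl i) (Sum.inr b)) h5
    simp only [Units.val_mul, e] at h6
    unfold tor at h6
    rw [Matrix.mul_diagonal, Matrix.diagonal_mul] at h6
    have e1 : chi A c (enc D (Sum.inl i : D.Idx)) = 1 := by
      apply chi_of_ge
      have := hC.af.agrees.n_eq
      simp only [enc]
      omega
    have e2 : chi A c (enc D (Sum.inr b : D.Idx)) = (chi A c (A.simple j))⁻¹ := by
      simp only [enc]
      rw [hb]
      exact chi_neg hC.af hj' c
    rw [e1, e2, one_mul] at h6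
    have h7 : (chi A c (A.simple j))⁻¹ = 1 := by
      have := mul_left_cancel₀ hne (h6.trans (mul_one _).symm)
      exact this
    exact inv_eq_one.mp h7
  have h1 : tor D A c = 1 := by
    let c' : Fin A.rank → Fˣ := fun i => Units.mk0 (c i.val) (hc i.val)
    have hcc : ∀ i < A.rank, extP A.rank c' i = c i := by
      intro i hi
      simp [extP, hi, c']
    have hpsi : psi (cartanZ A) c' = 1 := by
      funext j
      have hj : A.simple j < A.n := hC.af.sfacts.simple_lt j.val j.isLt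
      have h2 := chi_extP c' hj
      rw [chi_congr hcc, hsimple j] at h2
      unfold psi cartanZ
      apply Units.ext
      rw [← h2]
      rfl
    have h3 := (torHom_ker (D := D) (F := F) hC.af hd c').mpr hpsi
    rw [MonoidHom.mem_ker] at h3
    have h4 : tor D A (extP A.rank c') = 1 := by
      rw [← coe_torHom, h3]
      rfl
    rw [← h4]
    exact (tor_congr hcc).symm
  rw [Subgroup.mem_bot]
  apply Subtype.ext
  apply Units.ext
  rw [e, h1]
  rfl

end

end Cfsg.Agent.Lib.Helper19.TwCore
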