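import Cfsg.Agent.Lib.Helper19.TwGlue

/-!
Tools for showing that a subgroup generated by words in root elements is perfect: units of words,
the derived subgroup as a subgroup of `GL`, and the steps (commutator, conjugation, cancellation)
that move words into it along word identities.
-/

set_option autoImplicit false
set_option linter.unusedSimpArgs false

namespace Cfsg.Agent.Lib.Helper19.TwPerf

open Cfsg Cfsg.Lie Cfsg.Agent.Lib.Helper18.Fast Cfsg.Agent.Lib.Helper18.Facts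
  Cfsg.Agent.Lib.Helper18.AllRoots Cfsg.Agent.Lib.Helper18.Units Cfsg.Agent.Lib.Helper18.Sub
  Cfsg.Agent.Lib.Helper36.ChevEngine Cfsg.Agent.Lib.Helper36.ChevSound
  Cfsg.Agent.Lib.Helper19.TwCore Cfsg.Agent.Lib.Helper19.TwEngine Cfsg.Agent.Lib.Helper19.TwGlue

variable {A : FData} {D : ChevalleyDatum} {F : Type*} [Field F]

/-- the unit of `GL` with the matrix of a word -/
noncomputable def wU (hF : AFacts A D) (wd : List (ℕ × F)) : GL D.Idx F :=
  (isUnit_wordMat' hF wd).unit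

theorem coe_wU (hF : AFacts A D) (wd : List (ℕ × F)) :
    ((wU hF wd : GL D.Idx F) : Matrix D.Idx D.Idx F) = D.wordMat F wd := rfl

theorem wU_append (hF : AFacts A D) (wd wd' : List (ℕ × F)) :
    wU hF (wd ++ wd') = wU hF wd * wU hF wd' := by
  apply Units.ext
  rw [Units.val_mul, coe_wU, coe_wU, coe_wU, Cfsg.Agent.Lib.Helper18.Sub.wordMat_append]

theorem wU_nil (hF : AFacts A D) : wU hF ([] : List (ℕ × F)) = 1 := by
  apply Units.ext
  rw [coe_wU, Cfsg.Agent.Lib.Helper18.Sub.wordMat_nil]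
  rfl

theorem wU_congr (hF : AFacts A D) {wd wd' : List (ℕ × F)}
    (h : D.wordMat F wd = D.wordMat F wd') : wU hF wd = wU hF wd' := Units.ext h

theorem wU_mem_gen (hF : AFacts A D) (S : Set (List (ℕ × F))) {wd : List (ℕ × F)} (h : wd ∈ S) :
    wU hF wd ∈ D.genSubgroup F S := Subgroup.subset_closure ⟨wd, h, rfl⟩

theorem wU_mem_gen3 (hF : AFacts A D) (S : Set (List (ℕ × F))) {w1 w2 w3 : List (ℕ × F)}
    (h1 : w1 ∈ S) (h2 : w2 ∈ S) (h3 : w3 ∈ S) : wU hF (w1 ++ w2 ++ w3) ∈ D.genSubgroup F S := by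
  rw [wU_append, wU_append]
  exact Subgroup.mul_mem _ (Subgroup.mul_mem _ (wU_mem_gen hF S h1) (wU_mem_gen hF S h2))
    (wU_mem_gen hF S h3)

theorem evalWord_append (t u v : F) (w w' : SWord) :
    evalWord t u v (w ++ w') = evalWord t u v w ++ evalWord t u v w' := by
  simp [evalWord]

/-- the derived subgroup of `G1` as a subgroup of `GL` -/
def Cm (G1 : Subgroup (GL D.Idx F)) : Subgroup (GL D.Idx F) := (commutator ↥G1).map G1.subtype

theorem Cm_le (G1 : Subgroup (GL D.Idx F)) : Cm G1 ≤ G1 := by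
  rintro g ⟨x, _, rfl⟩
  exact x.2

theorem comm_mem {G1 : Subgroup (GL D.Idx F)} {a b : GL D.Idx F} (ha : a ∈ G1) (hb : b ∈ G1) :
    a * b * a⁻¹ * b⁻¹ ∈ Cm G1 := by
  have h1 := Subgroup.commutator_mem_commutator (Subgroup.mem_top (⟨a, ha⟩ : ↥G1))
    (Subgroup.mem_top (⟨b, hb⟩ : ↥G1))
  rw [commutatorElement_def] at h1
  have h2 : (⟨a, ha⟩ : ↥G1) * ⟨b, hb⟩ * (⟨a, ha⟩ : ↥G1)⁻¹ * (⟨b, hb⟩ : ↥G1)⁻¹ ∈
      commutator ↥G1 := by
    rw [commutator_def]
    exact h1
  have h3 := Subgroup.mem_map_of_mem G1.subtype h2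
  simp only [map_mul, map_inv, Subgroup.subtype_apply] at h3
  exact h3

theorem conj_mem {G1 : Subgroup (GL D.Idx F)} {g c : GL D.Idx F} (hg : g ∈ G1) (hc : c ∈ Cm G1) :
    g * c * g⁻¹ ∈ Cm G1 := by
  obtain ⟨x, hx, rfl⟩ := hc
  have hn : (commutator ↥G1).Normal := inferInstance
  refine ⟨(⟨g, hg⟩ : ↥G1) * x * (⟨g, hg⟩ : ↥G1)⁻¹, hn.conj_mem _ hx _, ?_⟩
  simp

/-- `a b = c b a`: `c` is the commutator of `a` and `b`. -/
theorem step_comm (hF : AFacts A D) (G1 : Subgroup (GL D.Idx F)) {a b c : List (ℕ × F)}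
    (h : D.wordMat F (a ++ b) = D.wordMat F (c ++ b ++ a)) (ha : wU hF a ∈ G1)
    (hb : wU hF b ∈ G1) : wU hF c ∈ Cm G1 := by
  have e := wU_congr hF h
  rw [wU_append, wU_append, wU_append] at e
  have e2 : wU hF c = wU hF a * wU hF b * (wU hF a)⁻¹ * (wU hF b)⁻¹ := by
    rw [e]
    group
  rw [e2]
  exact comm_mem ha hb

/-- `n c = d n`: `d` is the conjugate of `c` by `n`. -/
theorem conj_eq (hF : AFacts A D) {n c d : List (ℕ × F)}
    (h : D.wordMat F (n ++ c) = D.wordMat F (d ++ n)) :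
    wU hF d = wU hF n * wU hF c * (wU hF n)⁻¹ := by
  have e := wU_congr hF h
  rw [wU_append, wU_append] at e
  rw [e]
  group

theorem step_conj (hF : AFacts A D) (G1 : Subgroup (GL D.Idx F)) {n c d : List (ℕ × F)}
    (h : D.wordMat F (n ++ c) = D.wordMat F (d ++ n)) (hn : wU hF n ∈ G1)
    (hc : wU hF c ∈ Cm G1) : wU hF d ∈ Cm G1 := by
  rw [conj_eq hF h]
  exact conj_mem hn hc

theorem step_conj_inv (hF : AFacts A D) (G1 : Subgroup (GL D.Idx F)) {n c d : List (ℕ × F)}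
    (h : D.wordMat F (n ++ c) = D.wordMat F (d ++ n)) (hn : wU hF n ∈ G1)
    (hd : wU hF d ∈ Cm G1) : wU hF c ∈ Cm G1 := by
  have e : wU hF c = (wU hF n)⁻¹ * wU hF d * ((wU hF n)⁻¹)⁻¹ := by
    rw [conj_eq hF h]
    group
  rw [e]
  exact conj_mem (Subgroup.inv_mem _ hn) hd

theorem step_conj_mem (hF : AFacts A D) (G1 : Subgroup (GL D.Idx F)) {n c d : List (ℕ × F)}
    (h : D.wordMat F (n ++ c) = D.wordMat F (d ++ n)) (hn : wU hF n ∈ G1)
    (hc : wU hF c ∈ G1) : wU hF d ∈ G1 := by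
  rw [conj_eq hF h]
  exact Subgroup.mul_mem _ (Subgroup.mul_mem _ hn hc) (Subgroup.inv_mem _ hn)

/-- `n c = d n` with `n`, `c` in `G1`: `d` is congruent to `c` modulo the derived subgroup. -/
theorem step_cong (hF : AFacts A D) (G1 : Subgroup (GL D.Idx F)) {n c d : List (ℕ × F)}
    (h : D.wordMat F (n ++ c) = D.wordMat F (d ++ n)) (hn : wU hF n ∈ G1)
    (hc : wU hF c ∈ G1) : wU hF d * (wU hF c)⁻¹ ∈ Cm G1 := by
  rw [conj_eq hF h]
  exact comm_mem hn hc

theorem step_left (hF : AFacts A D) (G1 : Subgroup (GL D.Idx F)) {x y : List (ℕ × F)}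
    (hxy : wU hF (x ++ y) ∈ Cm G1) (hy : wU hF y ∈ Cm G1) : wU hF x ∈ Cm G1 := by
  rw [wU_append] at hxy
  have := Subgroup.mul_mem _ hxy (Subgroup.inv_mem _ hy)
  rwa [mul_inv_cancel_right] at this

theorem step_right (hF : AFacts A D) (G1 : Subgroup (GL D.Idx F)) {x y : List (ℕ × F)}
    (hxy : wU hF (x ++ y) ∈ Cm G1) (hx : wU hF x ∈ Cm G1) : wU hF y ∈ Cm G1 := by
  rw [wU_append] at hxy
  have := Subgroup.mul_mem _ (Subgroup.inv_mem _ hx) hxy
  rwa [inv_mul_cancel_left] at this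

/-- Congruences modulo the derived subgroup: from `x ≡ y`, `x' ≡ y'` and `x x' ≡ 1` get
`y y' ≡ 1`. -/
theorem cong_mul {G1 : Subgroup (GL D.Idx F)} {x y x' y' : GL D.Idx F} (hy : y ∈ G1)
    (h1 : x * y⁻¹ ∈ Cm G1) (h2 : x' * y'⁻¹ ∈ Cm G1) (h3 : x * x' ∈ Cm G1) : y * y' ∈ Cm G1 := by
  have h4 : y * (x' * y'⁻¹)⁻¹ * y⁻¹ ∈ Cm G1 := conj_mem hy (Subgroup.inv_mem _ h2)
  have h5 := Subgroup.mul_mem _ (Subgroup.mul_mem _ h4 (Subgroup.inv_mem _ h1)) h3
  have e : y * (x' * y'⁻¹)⁻¹ * y⁻¹ * (x * y⁻¹)⁻¹ * (x * x') = y * y' := by group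
  rwa [e] at h5

/-- The subgroup generated by a set of words is perfect as soon as every generating word lies in
the derived subgroup. -/
theorem commutator_eq_top (hF : AFacts A D) (S : Set (List (ℕ × F)))
    (h : ∀ wd ∈ S, wU hF wd ∈ Cm (D.genSubgroup F S)) :
    commutator ↥(D.genSubgroup F S) = ⊤ := by
  have hle : D.genSubgroup F S ≤ Cm (D.genSubgroup F S) := by
    have e : D.genSubgroup F S = Subgroup.closure {g : GL D.Idx F | ∃ w ∈ S,
        (g : Matrix D.Idx D.Idx F) = D.wordMat F w} := rfl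
    conv_lhs => rw [e]
    rw [Subgroup.closure_le]
    rintro g ⟨wd, hwd, hg⟩
    have e2 : g = wU hF wd := Units.ext hg
    rw [e2]
    exact h wd hwd
  rw [eq_top_iff]
  intro x _
  obtain ⟨y, hy, e⟩ := hle x.2
  have e2 : y = x := Subtype.ext e
  rwa [← e2]

/-- A non-zero polynomial of degree less than the order of a finite field has a non-root. -/
theorem exists_eval_ne_zero {K : Type*} [Field K] [Fintype K] (P : Polynomial K) (hP : P ≠ 0)
    (hdeg : P.natDegree < Fintype.card K) : ∃ t : K, P.eval t ≠ 0 := by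
  classical
  by_contra hcon
  push Not at hcon
  apply hP
  apply Polynomial.eq_zero_of_degree_lt_of_eval_finset_eq_zero (s := Finset.univ)
  · calc P.degree ≤ (P.natDegree : WithBot ℕ) := Polynomial.degree_le_natDegree
      _ < (Fintype.card K : WithBot ℕ) := by exact_mod_cast hdeg
  · intro x _
    exact hcon x

/-- The `q`-th power map is additive on a finite field whose order is a power of `q`. -/
theorem frob_add {K : Type*} [Field K] [Fintype K] {q n : ℕ} (hn : n ≠ 0)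
    (hK : Fintype.card K = q ^ n) (x y : K) : (x + y) ^ q = x ^ q + y ^ q := by
  obtain ⟨p, hp⟩ := CharP.exists K
  obtain ⟨k, hpr, hk⟩ := FiniteField.card K p
  have h1 : q ∣ p ^ (k : ℕ) := by
    rw [← hk, hK]
    exact dvd_pow_self q hn
  obtain ⟨j, _, rfl⟩ := (Nat.dvd_prime_pow hpr).mp h1
  have := Fact.mk hpr
  exact add_pow_char_pow x y p j

theorem pow_card_pow {K : Type*} [Field K] [Fintype K] {q n : ℕ}
    (hK : Fintype.card K = q ^ n) (t : K) : t ^ (q ^ n) = t := by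
  rw [← hK]
  exact FiniteField.pow_card t

/-! ### Parameters of symbolic words -/

/-- the parameter `z * t` -/
def pt (z : ℤ) : Param := [⟨z, 1, 0, 0⟩]
/-- the parameter `z * u` -/
def pu (z : ℤ) : Param := [⟨z, 0, 1, 0⟩]
/-- the parameter `z * v` -/
def pv (z : ℤ) : Param := [⟨z, 0, 0, 1⟩]
/-- the parameter `z * (t * u)` -/
def ptu (z : ℤ) : Param := [⟨z, 1, 1, 0⟩]
/-- the parameter `z * (t * v)` -/
def ptv (z : ℤ) : Param := [⟨z, 1, 0, 1⟩]
/-- the parameter `z * (u * v)` -/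
def puv (z : ℤ) : Param := [⟨z, 0, 1, 1⟩]
/-- the parameter `z * (t * (u * v))` -/
def ptuv (z : ℤ) : Param := [⟨z, 1, 1, 1⟩]
/-- the parameter `t * u + u * v` -/
def ptuuv : Param := [⟨1, 1, 1, 0⟩, ⟨1, 0, 1, 1⟩]
/-- the parameter `-(t + u + v)` -/
def pntuv : Param := [⟨-1, 1, 0, 0⟩, ⟨-1, 0, 1, 0⟩, ⟨-1, 0, 0, 1⟩]

theorem evalParam_pt (t u v : F) (z : ℤ) : evalParam t u v (pt z) = (z : F) * t := by
  simp [pt, evalParam, monoEval]
theorem evalParam_pu (t u v : F) (z : ℤ) : evalParam t u v (pu z) = (z : F) * u := by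
  simp [pu, evalParam, monoEval]
theorem evalParam_pv (t u v : F) (z : ℤ) : evalParam t u v (pv z) = (z : F) * v := by
  simp [pv, evalParam, monoEval]
theorem evalParam_ptu (t u v : F) (z : ℤ) : evalParam t u v (ptu z) = (z : F) * (t * u) := by
  simp [ptu, evalParam, monoEval]
theorem evalParam_ptv (t u v : F) (z : ℤ) : evalParam t u v (ptv z) = (z : F) * (t * v) := by
  simp [ptv, evalParam, monoEval]
theorem evalParam_puv (t u v : F) (z : ℤ) : evalParam t u v (puv z) = (z : F) * (u * v) := by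
  simp [puv, evalParam, monoEval]
theorem evalParam_ptuv (t u v : F) (z : ℤ) :
    evalParam t u v (ptuv z) = (z : F) * (t * (u * v)) := by
  simp [ptuv, evalParam, monoEval]
theorem evalParam_ptuuv (t u v : F) : evalParam t u v ptuuv = t * u + u * v := by
  simp [ptuuv, evalParam, monoEval]
theorem evalParam_pntuv (t u v : F) : evalParam t u v pntuv = -(t + u + v) := by
  simp [pntuv, evalParam, monoEval]
  ring

theorem evalWord_cons (t u v : F) (r : ℕ) (P : Param) (w : SWord) :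
    evalWord t u v ((r, P) :: w) = (r, evalParam t u v P) :: evalWord t u v w := rfl

theorem evalWord_nil (t u v : F) : evalWord t u v [] = [] := rfl

end Cfsg.Agent.Lib.Helper19.TwPerf
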